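import Cfsg.Agent.Fusion.PPowerIndex

/-!
The transfer of a homomorphism from `S` to an abelian group along a stable biset, as a cocycle on
the action of `S` on the right orbits.
-/

set_option autoImplicit false

universe u

namespace CfsgLib.FusionTate

open Cfsg Cfsg.FusionSystem CfsgLib.Fusion CfsgLib.FusionBiset

/-- The transfer data of a homomorphism `lam` from `S`: an action of `S` on a set of size prime to
`p`, a cocycle whose product is invariant under the fusion system, and on each stabiliser equal to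
`lam` after a map of the system. -/
structure TransferData {Ω : Type u} [Group Ω] {S : Subgroup Ω} (F : FusionSystem S) (p : ℕ)
    {A : Type*} [CommGroup A] (lam : S →* A) where
  Q : Type u
  fin : Fintype Q
  act : MulAction S Q
  not_dvd : ¬ p ∣ Nat.card Q
  f : S → Q → A
  cocycle : ∀ u v w, f (u * v) w = f u (v • w) * f v w
  invariant : ∀ (P : Subgroup Ω) (φ : P →* Ω) (hφ : φ ∈ F.Hom P) (x : P),
    ∏ w, f ⟨φ x, apply_mem hφ x⟩ w = ∏ w, f ⟨x, le_left hφ x.2⟩ w
  local_eq : ∀ w : Q, ∃ (R : Subgroup Ω) (θ : R →* Ω) (hθ : θ ∈ F.Hom R),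
    ∀ v : S, v • w = w → ∃ h : (v : Ω) ∈ R, f v w = lam ⟨θ ⟨v, h⟩, apply_mem hθ _⟩

attribute [instance] TransferData.fin TransferData.act

variable {Ω : Type u} [Group Ω] {S : Subgroup Ω} {F : FusionSystem S} {p : ℕ}

theorem exists_transferData [Finite S] [Fact p.Prime] (hS : IsPGroup p S) (hF : F.IsSaturated p)
    {A : Type*} [CommGroup A] (lam : S →* A) : Nonempty (TransferData F p lam) := by
  classical
  obtain ⟨X, iX, iA, hst, hbal, k, hk, hcard⟩ := exists_stable_biset hS hF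
  haveI := iX
  let Q := Quotient (rightRel S S X)
  letI : Fintype Q := Fintype.ofFinite _
  have hQ : Nat.card Q = k :=
    Nat.eq_of_mul_eq_mul_left Nat.card_pos
      ((CfsgLib.PPowerIndex.card_orbits hst).symm.trans hcard)
  have hfree : ∀ (x : X) (t : S), ((1, t) : S × S) • x = x → t = 1 := by
    intro x t h
    obtain ⟨R, θ, hθ, hv⟩ := hst x
    obtain ⟨hR, hθt⟩ := hv _ h
    exact Subtype.ext (congrArg Subtype.val
      (F.injective_of_mem hθ (hθt.trans (map_one θ).symm) : (⟨t, hR⟩ : R) = 1) :)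
  have hmk : ∀ (t : S) (x : X),
      Quotient.mk (rightRel S S X) (((1, t) : S × S) • x) = Quotient.mk (rightRel S S X) x :=
    fun t x => (Quotient.sound (show (rightRel S S X).r x _ from ⟨t, rfl⟩)).symm
  let r : Q → X := Quotient.out
  have hr : ∀ w, Quotient.mk (rightRel S S X) (r w) = w := Quotient.out_eq
  have huniq : ∀ (t t' : S) (w w' : Q),
      ((1, t) : S × S) • r w = ((1, t') : S × S) • r w' → w = w' ∧ t = t' := by
    intro t t' w w' h
    have hw : w = w' := by
      have := congrArg (Quotient.mk (rightRel S S X)) h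
      rwa [hmk, hmk, hr, hr] at this
    subst hw
    refine ⟨rfl, ?_⟩
    have h1 : ((1, t'⁻¹ * t) : S × S) • r w = r w := by
      rw [show ((1, t'⁻¹ * t) : S × S) = ((1, t') : S × S)⁻¹ * ((1, t) : S × S) by simp,
        mul_smul, h, inv_smul_smul]
    exact (inv_mul_eq_one.1 (hfree _ _ h1)).symm
  have hdec : ∀ x : X, ∃ (t : S) (w : Q), ((1, t) : S × S) • r w = x := fun x => by
    obtain ⟨t, ht⟩ := Quotient.exact (hr (Quotient.mk (rightRel S S X) x))
    exact ⟨t, _, ht⟩
  choose c ρ hcρ using fun (v : S) (w : Q) => hdec (((v, 1) : S × S) • r w)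
  have hmulc : ∀ u v w, ρ (u * v) w = ρ u (ρ v w) ∧ c (u * v) w = c v w * c u (ρ v w) := by
    intro u v w
    refine huniq _ _ _ _ ?_
    rw [hcρ, show ((1, c v w * c u (ρ v w)) : S × S) = ((1, c v w) : S × S) * (1, c u (ρ v w)) by
        simp, mul_smul, hcρ, ← mul_smul,
      show ((1, c v w) : S × S) * (u, 1) = ((u, 1) : S × S) * (1, c v w) by simp, mul_smul, hcρ,
      ← mul_smul, Prod.mk_mul_mk, mul_one]
  have hρ1 : ∀ w, ρ 1 w = w := fun w => (huniq (c 1 w) 1 _ _ (by
    rw [hcρ, show ((1, 1) : S × S) = 1 from rfl, one_smul])).1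
  let act : MulAction S Q :=
    { smul := ρ, one_smul := hρ1, mul_smul := fun u v w => (hmulc u v w).1 }
  refine ⟨⟨Q, inferInstance, act, hQ ▸ hk, fun v w => (lam (c v w))⁻¹, fun u v w => ?_,
    fun P φ hφ x => ?_, fun w => ?_⟩⟩
  · show (lam (c (u * v) w))⁻¹ = (lam (c u (ρ v w)))⁻¹ * (lam (c v w))⁻¹
    rw [(hmulc u v w).2, map_mul, mul_inv_rev]
  · obtain ⟨σ, hσ1, hσ2⟩ := exists_stable_perm hst hbal hφ
    set xS : S := ⟨x, le_left hφ x.2⟩
    set yS : S := ⟨φ x, apply_mem hφ x⟩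
    choose b τ hbτ using fun w => hdec (σ (r w))
    have hτbij : Function.Bijective τ := Finite.surjective_iff_bijective.1 fun w => by
      obtain ⟨t, w₀, hw₀⟩ := hdec (σ.symm (r w))
      refine ⟨w₀, (huniq (t * b w₀) 1 (τ w₀) w ?_).1⟩
      rw [show ((1, t * b w₀) : S × S) = ((1, t) : S × S) * (1, b w₀) by simp, mul_smul, hbτ,
        ← hσ1, hw₀, σ.apply_symm_apply, show ((1, 1) : S × S) = 1 from rfl, one_smul]
    have hkey : ∀ w, b w * c yS (τ w) = c xS w * b (ρ xS w) := fun w => (huniq _ _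
        (ρ yS (τ w)) (τ (ρ xS w)) (by
      have h1 := hσ2 x (r w)
      rw [← hcρ xS w, hσ1, ← hbτ, ← hbτ, ← mul_smul, ← mul_smul,
        show ((1, c xS w) : S × S) * (1, b (ρ xS w)) = (1, c xS w * b (ρ xS w)) by simp,
        show ((yS, 1) : S × S) * (1, b w) = (1, b w) * (yS, 1) by simp, mul_smul, ← hcρ,
        ← mul_smul,
        show ((1, b w) : S × S) * (1, c yS (τ w)) = (1, b w * c yS (τ w)) by simp] at h1
      exact h1.symm)).2
    have h2 : ∀ w, (lam (c yS (τ w)))⁻¹ =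
        (lam (c xS w))⁻¹ * (lam (b w) * (lam (b (ρ xS w)))⁻¹) := fun w => by
      have h := congrArg lam (hkey w)
      rw [map_mul, map_mul] at h
      rw [show lam (c yS (τ w)) = (lam (b w))⁻¹ * (lam (c xS w) * lam (b (ρ xS w))) by
        rw [← h, inv_mul_cancel_left]]
      simp only [mul_inv_rev, inv_inv]
      ac_rfl
    have hρbij : Function.Bijective (ρ xS) := MulAction.bijective xS
    show ∏ w, (lam (c yS w))⁻¹ = ∏ w, (lam (c xS w))⁻¹
    rw [← Fintype.prod_bijective τ hτbij (fun w => (lam (c yS (τ w)))⁻¹) _ fun w => rfl]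
    rw [Finset.prod_congr rfl fun w _ => h2 w, Finset.prod_mul_distrib, Finset.prod_mul_distrib,
      Fintype.prod_bijective (ρ xS) hρbij (fun w => (lam (b (ρ xS w)))⁻¹)
        (fun w => (lam (b w))⁻¹) fun w => rfl, ← Finset.prod_mul_distrib (f := fun w => lam (b w))]
    simp
  · obtain ⟨R₀, θ₀, hθ₀, hv⟩ := hst (r w)
    obtain ⟨θ, hθ, hθv⟩ := F.inv_mem hθ₀
    refine ⟨_, θ, hθ, fun v hw => ?_⟩
    have hfix : ((v, (c v w)⁻¹) : S × S) • r w = r w := by
      rw [show ((v, (c v w)⁻¹) : S × S) = ((1, c v w) : S × S)⁻¹ * (v, 1) by simp, mul_smul,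
        ← hcρ]
      rw [show ρ v w = w from hw, inv_smul_smul]
    obtain ⟨hR, hθc⟩ := hv _ hfix
    refine ⟨⟨⟨_, hR⟩, hθc⟩, ?_⟩
    show (lam (c v w))⁻¹ = lam _
    rw [← map_inv]
    refine congrArg lam (Subtype.ext ?_)
    show (((c v w)⁻¹ : S) : Ω) = θ ⟨(v : Ω), _⟩
    refine (hθv ⟨_, hR⟩).symm.trans ?_
    exact congrArg θ (Subtype.ext hθc)

end CfsgLib.FusionTate
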