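import Cfsg.Agent.FusionTate.Tate
import Cfsg.Agent.FusionAbelian.Basic
import Cfsg.Agent.FusionFactor.Construct
import Cfsg.Agent.FusionFactor.ImageSaturated
import Cfsg.Agent.WeakClosed.FusionBasic

/-!
Consequences of Tate's theorem: elementary focal, focal and hyperfocal subgroups, and criteria for
the inner fusion system.
-/

set_option autoImplicit false

universe u

namespace CfsgLib.FusionTate

open Cfsg Cfsg.FusionSystem CfsgLib.Fusion
open scoped commutatorElement

variable {Ω : Type u} [Group Ω] {S : Subgroup Ω} {F : FusionSystem S} {p : ℕ}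

theorem commutator_le_frattini [Finite S] [Fact p.Prime] (hS : IsPGroup p S) :
    ⁅(S : Subgroup Ω), S⁆ ≤ (frattini S).map S.subtype := by
  rw [← Subgroup.map_subtype_commutator]
  exact Subgroup.map_mono (CfsgLib.Solvable.commutator_le_frattini hS)

/-- Tate's theorem, elementary focal form. -/
theorem hyperfocal_eq_of_frattini_focal [Finite S] [Fact p.Prime] (hS : IsPGroup p S)
    (hF : F.IsSaturated p) {H : FusionSystem S} (hH : H.IsSaturated p) (hHF : H.IsSubsystemOf F)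
    (h : (frattini S).map S.subtype ⊔ F.focalSubgroup = (frattini S).map S.subtype ⊔ H.focalSubgroup) :
    F.hyperfocalSubgroup p = H.hyperfocalSubgroup p := by
  refine hyperfocal_eq_of_le hS hF hHF ?_
  refine le_trans (hyperfocal_le_focal.trans (le_sup_right.trans h.le)) ?_
  rw [focalSubgroup_eq hS hH]
  exact sup_le le_sup_left (sup_le le_sup_right ((commutator_le_frattini hS).trans le_sup_left))

theorem focal_eq_of_hyperfocal [Finite S] [Fact p.Prime] (hS : IsPGroup p S)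
    (hF : F.IsSaturated p) {H : FusionSystem S} (hH : H.IsSaturated p)
    (h : F.hyperfocalSubgroup p = H.hyperfocalSubgroup p) : F.focalSubgroup = H.focalSubgroup := by
  rw [focalSubgroup_eq hS hF, focalSubgroup_eq hS hH, h]

theorem inner_subsystem (F : FusionSystem S) : (innerFusionSystem S).IsSubsystemOf F :=
  fun P _ ⟨hP, _, hg, hv⟩ => Fusion.conj_mem' hP hg hv

theorem hyperfocal_inner [Finite S] [Fact p.Prime] (hS : IsPGroup p S) :
    (innerFusionSystem S).hyperfocalSubgroup p = ⊥ := by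
  refine le_bot_iff.1 ((Subgroup.closure_le _).2 ?_)
  rintro _ ⟨P, α, x, hP, hα, rfl⟩
  rw [SetLike.mem_coe, Subgroup.mem_bot, inv_mul_eq_one]
  haveI := finite_of_le hP
  refine (hom_apply_eq_of_pResidual P.subtype (fun a ha y => ?_) hα x).symm
  have hle : (innerFusionSystem S).autGroup P ≤ autInducedBy S P := fun β hβ => by
    obtain ⟨-, g, hg, hv⟩ := (mem_autGroup_iff hP).1 hβ
    haveI := finite_of_le hP
    refine mem_autInducedBy_iff.2 ⟨g, hg, Subgroup.mem_normalizer_fintype fun z hz => ?_, hv⟩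
    rw [← show _ = g * z * g⁻¹ from hv ⟨z, hz⟩]
    exact (β _).2
  obtain ⟨n, hn⟩ := (isPGroup_autInducedBy hS P) ⟨_, hle a.2⟩
  have h1 : orderOf a ∣ p ^ n := orderOf_dvd_of_pow_eq_one (Subtype.ext (congrArg Subtype.val hn :))
  have h2 : orderOf a = 1 := Nat.eq_one_of_dvd_coprimes (Nat.Coprime.pow_right n ha) dvd_rfl h1
  rw [orderOf_eq_one_iff] at h2
  subst h2
  rfl

/-- A saturated system with hyperfocal subgroup in the Frattini subgroup is inner. -/
theorem inner_of_hyperfocal_le [Finite S] [Fact p.Prime] (hS : IsPGroup p S) (hF : F.IsSaturated p)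
    (h : F.hyperfocalSubgroup p ≤ (frattini S).map S.subtype) (P : Subgroup Ω) :
    F.Hom P = (innerFusionSystem S).Hom P := by
  have h0 : F.hyperfocalSubgroup p = ⊥ :=
    (hyperfocal_eq_of_le hS hF (inner_subsystem F) (h.trans le_sup_left)).trans (hyperfocal_inner hS)
  refine Set.Subset.antisymm (fun φ hφ => Fusion.mem_le_of_pResidual hS hF (fun R hR α hα => ?_) hφ)
    (inner_subsystem F P)
  refine ⟨hR, 1, S.one_mem, fun x => ?_⟩
  have h1 := inv_mul_apply_mem_hyperfocal hR hα x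
  rw [h0, Subgroup.mem_bot, inv_mul_eq_one] at h1
  show ((α x : R) : Ω) = _
  rw [← h1]
  simp

/-- If `[S,S] ≤ T`, `T` is strongly closed and every automorphism of `S` is trivial modulo `T`, the
hyperfocal subgroup lies in `T`. -/
theorem hyperfocal_le_of_aut_trivial [Finite S] [Fact p.Prime] (hS : IsPGroup p S)
    (hF : F.IsSaturated p) {T : Subgroup Ω} (hT : F.StronglyClosed T)
    (hcomm : ⁅(S : Subgroup Ω), S⁆ ≤ T)
    (haut : ∀ α ∈ F.autGroup S, ∀ x : S, (x : Ω)⁻¹ * ((α x : S) : Ω) ∈ T) :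
    F.hyperfocalSubgroup p ≤ T := by
  haveI : (T.subgroupOf S).Normal := (Subgroup.normal_subgroupOf_iff_le_normalizer hT.1).2
    (FusionFactor.le_normalizer_of_stronglyClosed hT)
  obtain ⟨E, hE⟩ := FusionFactor.exists_factorSystem_quotient F T hT
  have hEs := FusionFactor.isSaturated_factor hS hF hT hE
  obtain ⟨hmor, -, hlift⟩ := FusionFactor.isSurjectiveMorphism_of_isFactorSystem hS hF hT hE
  set θ := QuotientGroup.mk' (T.subgroupOf S) with hθ
  have hθT : ∀ s : S, θ s = 1 ↔ (s : Ω) ∈ T := fun s =>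
    (QuotientGroup.eq_one_iff s).trans Subgroup.mem_subgroupOf
  have hab : ∀ a ∈ (⊤ : Subgroup (↥S ⧸ T.subgroupOf S)), ∀ b ∈ (⊤ : Subgroup (↥S ⧸ T.subgroupOf S)),
      a * b = b * a := fun a _ b _ => by
    obtain ⟨x, rfl⟩ := QuotientGroup.mk'_surjective (T.subgroupOf S) a
    obtain ⟨y, rfl⟩ := QuotientGroup.mk'_surjective (T.subgroupOf S) b
    rw [← commutatorElement_eq_one_iff_mul_comm, ← map_commutatorElement]
    exact (hθT _).2 (hcomm (Subgroup.commutator_mem_commutator x.2 y.2))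
  have hSp : IsPGroup p (⊤ : Subgroup (↥S ⧸ T.subgroupOf S)) := (hS.to_quotient _).to_subgroup ⊤
  have htriv : ∀ β ∈ E.autGroup ⊤, ∀ y, β y = y := by
    intro β hβ y
    obtain ⟨ψ, hψ, hDS, hψS, hD, hv⟩ := hlift ⊤ le_rfl _ ((mem_autGroup_iff le_rfl).1 hβ)
    obtain ⟨⟨x, hx⟩, hxy⟩ := QuotientGroup.mk'_surjective (T.subgroupOf S)
      (y : ↥S ⧸ T.subgroupOf S)
    have hxD : x ∈ preimageAlong θ ⊤ :=
      FusionFactor.mem_preimageAlong.2 ⟨hx, Subgroup.mem_top _⟩
    have hSD : S ≤ preimageAlong θ ⊤ := fun z hz =>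
      FusionFactor.mem_preimageAlong.2 ⟨hz, Subgroup.mem_top _⟩
    have hψ' := Fusion.restrict_mem hψ hSD
    obtain ⟨α, hα, hαv⟩ := exists_iso hψ' (eq_S_of_isConj ⟨_, hψ', rfl⟩)
    have h1 : θ (⟨x, hx⟩⁻¹ * α ⟨x, hx⟩) = 1 :=
      (hθT _).2 (haut α (IsIso.mem_autGroup hα) ⟨x, hx⟩)
    rw [map_mul, map_inv, inv_mul_eq_one] at h1
    refine Subtype.ext ?_
    have h2 := hv ⟨x, hxD⟩
    simp only [MonoidHom.coe_comp, MulEquiv.coe_toMonoidHom, Subgroup.coe_subtype,
      Function.comp_apply] at h2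
    rw [show (⟨θ ⟨x, hDS hxD⟩, hD ⟨x, hxD⟩⟩ : (⊤ : Subgroup (↥S ⧸ T.subgroupOf S))) = y from
      Subtype.ext hxy] at h2
    rw [h2, ← hxy, h1]
    exact congrArg θ (Subtype.ext (hαv ⟨x, hx⟩).symm)
  refine (Subgroup.closure_le _).2 ?_
  rintro _ ⟨P, α, x, hP, hα, rfl⟩
  have hφ : IsIso F (α : MulAut P) := (mem_autGroup_iff hP).1 α.2
  obtain ⟨φ', hφ', hPS, hφS, hP', hv⟩ := hmor.2 P _ hφ
  obtain ⟨β, hβ, hβv⟩ := CfsgLib.FusionAbelian.exists_aut_extension hSp hEs hab hφ'
  have h1 := hβv ⟨θ ⟨x, hPS x.2⟩, hP' x⟩ (Subgroup.mem_top _)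
  rw [hv x, htriv β hβ] at h1
  have h2 : θ (⟨x, hPS x.2⟩⁻¹ * ⟨((α : MulAut P) x : P), hP (Subtype.prop _)⟩) = 1 := by
    rw [map_mul, map_inv, inv_mul_eq_one]
    exact h1.symm
  exact (hθT _).1 h2

/-- Automorphisms of `S` when the normalizer system of `S` is inner. -/
theorem exists_conj_of_normalizer_inner [Finite S]
    (hN : ∀ N : FusionSystem (normalizerIn S S), F.IsNormalizerSystem S N → ∀ P : Subgroup Ω,
      N.Hom P = (innerFusionSystem (normalizerIn S S)).Hom P)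
    {α : MulAut S} (hα : α ∈ F.autGroup S) : ∃ g ∈ S, ∀ x : S, ((α x : S) : Ω) = g * x * g⁻¹ := by
  have hSS : normalizerIn S S = S := WeakClosed.normalizerIn_eq_self Subgroup.le_normalizer
  obtain ⟨N, hNs⟩ := exists_isNormalizerSystem F (le_refl S)
  have h : S.subtype.comp α.toMonoidHom ∈ F.normalizerHom S S := by
    have hle : S ⊔ S ≤ S := sup_le le_rfl le_rfl
    refine ⟨(mem_autGroup_iff le_rfl).1 hα, hSS.ge, fun x => hSS.ge (α x).2,
      restrictHom _ hle, Fusion.restrict_mem ((mem_autGroup_iff le_rfl).1 hα) hle, fun x => rfl, ?_⟩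
    ext z
    constructor
    · rintro ⟨w, -, rfl⟩
      exact (α _).2
    · intro hz
      refine ⟨⟨α.symm ⟨z, hz⟩, Subgroup.mem_sup_left (Subtype.prop _)⟩, Subtype.prop _, ?_⟩
      show ((α ⟨(α.symm ⟨z, hz⟩ : S), _⟩ : S) : Ω) = z
      exact congrArg Subtype.val (α.apply_symm_apply ⟨z, hz⟩)
  rw [← hNs S, hN N hNs S] at h
  obtain ⟨-, g, hg, hv⟩ := h
  exact ⟨g, hSS.le hg, hv⟩

theorem aut_trivial_of_normalizer_inner [Finite S]
    (hN : ∀ N : FusionSystem (normalizerIn S S), F.IsNormalizerSystem S N → ∀ P : Subgroup Ω,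
      N.Hom P = (innerFusionSystem (normalizerIn S S)).Hom P)
    {T : Subgroup Ω} (hcomm : ⁅(S : Subgroup Ω), S⁆ ≤ T)
    {α : MulAut S} (hα : α ∈ F.autGroup S) (x : S) : (x : Ω)⁻¹ * ((α x : S) : Ω) ∈ T := by
  obtain ⟨g, hg, hv⟩ := exists_conj_of_normalizer_inner hN hα
  rw [hv]
  have := hcomm (Subgroup.commutator_mem_commutator (S.inv_mem x.2) hg)
  simpa [commutatorElement_def, mul_assoc] using this

/-- `Φ(S)` strongly closed and `N_F(S)` inner: the system is inner. -/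
theorem inner_of_stronglyClosed_frattini [Finite S] [Fact p.Prime] (hS : IsPGroup p S)
    (hF : F.IsSaturated p) (hc : F.StronglyClosed ((frattini S).map S.subtype))
    (hN : ∀ N : FusionSystem (normalizerIn S S), F.IsNormalizerSystem S N → ∀ P : Subgroup Ω,
      N.Hom P = (innerFusionSystem (normalizerIn S S)).Hom P) (P : Subgroup Ω) :
    F.Hom P = (innerFusionSystem S).Hom P :=
  inner_of_hyperfocal_le hS hF (hyperfocal_le_of_aut_trivial hS hF hc (commutator_le_frattini hS)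
    fun _ hα x => aut_trivial_of_normalizer_inner hN (commutator_le_frattini hS) hα x) P

/-- The normalizer system of `[S,S] ≤ Q ≤ Φ(S)` is inner when that of `S` is. -/
theorem normalizer_inner [Finite S] [Fact p.Prime] (hS : IsPGroup p S) (hF : F.IsSaturated p)
    (hN : ∀ N : FusionSystem (normalizerIn S S), F.IsNormalizerSystem S N → ∀ P : Subgroup Ω,
      N.Hom P = (innerFusionSystem (normalizerIn S S)).Hom P)
    {Q : Subgroup Ω} (h1 : ⁅(S : Subgroup Ω), S⁆ ≤ Q) (h2 : Q ≤ (frattini S).map S.subtype)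
    {M : Subgroup Ω} (hMS : M = S) {N : FusionSystem M} (hNs : N.IsSaturated p)
    (hNQ : ∀ P, N.Hom P = F.normalizerHom Q P) (P : Subgroup Ω) :
    N.Hom P = (innerFusionSystem M).Hom P := by
  subst hMS
  have hQS : Q ≤ M := h2.trans (Subgroup.map_subtype_le _)
  refine inner_of_hyperfocal_le hS hNs (le_trans ?_ h2) P
  refine hyperfocal_le_of_aut_trivial hS hNs ⟨hQS, fun R hR φ hφ x => ?_⟩ h1 fun α hα x => ?_
  · rw [hNQ] at hφ
    obtain ⟨-, -, -, ψ, -, hψP, hψQ⟩ := hφ
    rw [← hψP x]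
    exact hψQ.le ⟨_, hR x.2, rfl⟩
  · have h : (M.subtype.comp α.toMonoidHom) ∈ N.Hom M := (mem_autGroup_iff le_rfl).1 hα
    rw [hNQ] at h
    exact aut_trivial_of_normalizer_inner hN h1 (IsIso.mem_autGroup (F := F) h.1) x

end CfsgLib.FusionTate
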