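import Cfsg.Agent.Fusion.PPowerIndex
import Cfsg.Agent.Fusion.Hyperfocal
import Cfsg.Agent.FusionFactor.Lift

/-!
Transfer along a stable biset into a central extension: the defect homomorphism used in the proof of
Tate's theorem for fusion systems.
-/

set_option autoImplicit false

universe u

namespace CfsgLib.FusionTate

open Cfsg Cfsg.FusionSystem CfsgLib.Fusion CfsgLib.FusionBiset

/-- An equivariant function into a set with an action given by a function. -/
theorem exists_equivariant_set {K X Y : Type*} [Group K] [MulAction K X] (a : K → Y → Y)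
    (hmul : ∀ g h y, a (g * h) y = a g (a h y))
    (hfix : ∀ x : X, ∃ y, ∀ k ∈ MulAction.stabilizer K x, a k y = y) :
    ∃ η : X → Y, ∀ (k : K) (x : X), η (k • x) = a k (η x) := by
  classical
  choose y₀ hy₀ using hfix
  let rep : X → X := fun x => Quotient.out (Quotient.mk (MulAction.orbitRel K X) x)
  have hrep : ∀ x : X, ∃ k : K, k • rep x = x :=
    fun x => (MulAction.orbitRel_apply.1
      ((MulAction.orbitRel K X).symm' (Quotient.mk_out (s := MulAction.orbitRel K X) x)) :)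
  choose c hc using hrep
  refine ⟨fun x => a (c x) (y₀ (rep x)), fun k x => ?_⟩
  have hq : rep (k • x) = rep x := congrArg Quotient.out (Quotient.sound (MulAction.mem_orbit x k))
  have h1 := hc (k • x)
  rw [hq] at h1
  show a (c (k • x)) (y₀ (rep (k • x))) = a k (a (c x) (y₀ (rep x)))
  rw [hq]
  have hs : (c (k • x))⁻¹ * (k * c x) ∈ MulAction.stabilizer K (rep x) := by
    rw [MulAction.mem_stabilizer_iff, mul_smul, mul_smul, hc x, inv_smul_eq_iff, h1]
  conv_lhs => rw [← hy₀ _ _ hs, ← hmul, mul_inv_cancel_left]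
  rw [hmul]

variable {Ω : Type u} [Group Ω] {S : Subgroup Ω} {F : FusionSystem S} {p : ℕ}

/-- Modulo a strongly closed subgroup containing the hyperfocal subgroup every map is a
conjugation. -/
theorem exists_conj_mod [Finite S] [Fact p.Prime] (hS : IsPGroup p S) (hF : F.IsSaturated p)
    {T : Subgroup Ω} (hT : F.StronglyClosed T) (hhyp : F.hyperfocalSubgroup p ≤ T)
    {P : Subgroup Ω} {φ : P →* Ω} (hφ : φ ∈ F.Hom P) :
    ∃ s ∈ S, ∀ y : P, (s * (y : Ω) * s⁻¹)⁻¹ * φ y ∈ T := by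
  have hn : ∀ {s t : Ω}, s ∈ S → t ∈ T → s * t * s⁻¹ ∈ T := fun hs ht =>
    FusionFactor.conj_mem_of_stronglyClosed hT hs ht
  let D : FusionSystem S :=
    { Hom := fun P => {φ | φ ∈ F.Hom P ∧ ∃ s ∈ S, ∀ y : P, (s * (y : Ω) * s⁻¹)⁻¹ * φ y ∈ T}
      le_of_mem := fun h => F.le_of_mem h.1
      injective_of_mem := fun h => F.injective_of_mem h.1
      conj_mem := fun {P g} hP hg => ⟨F.conj_mem hP hg, g, hg, fun y => by
        show (g * (y : Ω) * g⁻¹)⁻¹ * (g * (y : Ω) * g⁻¹) ∈ T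
        rw [inv_mul_cancel]
        exact one_mem T⟩
      comp_mem := fun {P Q φ ψ} ⟨hφ, s, hs, h1⟩ ⟨hψ, r, hr, h2⟩ h =>
        ⟨F.comp_mem hφ hψ h, r * s, S.mul_mem hr hs, fun y => by
          show (r * s * (y : Ω) * (r * s)⁻¹)⁻¹ * ψ ⟨φ y, h y⟩ ∈ T
          have h3 := T.mul_mem (hn hr (h1 y)) (h2 ⟨φ y, h y⟩)
          convert h3 using 1
          group⟩
      inv_mem := fun {P φ} ⟨hφ, s, hs, h1⟩ => by
        obtain ⟨ψ, hψ, hv⟩ := F.inv_mem hφ
        refine ⟨ψ, ⟨hψ, s⁻¹, S.inv_mem hs, ?_⟩, hv⟩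
        rintro ⟨_, x, rfl⟩
        have h3 := hn (S.inv_mem hs) (T.inv_mem (h1 x))
        rw [hv x]
        have h4 := hn (S.inv_mem (le_left hφ x.2)) h3
        convert hn (le_left hφ x.2) h4 using 1
        group
        }
  refine ((Fusion.mem_le_of_pResidual hS hF (D := D) (fun R hR α hα => ?_) hφ).2 :)
  refine ⟨(mem_autGroup_iff hR).1 (Subgroup.map_subtype_le _ hα), 1, S.one_mem, fun y => ?_⟩
  simpa using hhyp (inv_mul_apply_mem_hyperfocal hR hα y)

/-- **The defect homomorphism.** `E` receives `S`, with `T` sent to central elements killed by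
`p`. -/
theorem exists_defect_hom [Finite S] [Fact p.Prime] (hS : IsPGroup p S) (hF : F.IsSaturated p)
    {T : Subgroup Ω} (hT : F.StronglyClosed T) (hhyp : F.hyperfocalSubgroup p ≤ T)
    {E : Type u} [Group E] (π : S →* E) (hc : ∀ s : S, (s : Ω) ∈ T → π s ∈ Subgroup.center E)
    (hp : ∀ s : S, (s : Ω) ∈ T → π s ^ p = 1) :
    ∃ (k : ℕ) (D : S →* Subgroup.center E), ¬ p ∣ k ∧ (∀ s, D s ^ p = 1) ∧
      ∀ (P : Subgroup Ω) (φ : P →* Ω) (hφ : φ ∈ F.Hom P) (x : P), (x : Ω) ∈ T →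
        π ⟨φ x, apply_mem hφ x⟩ ^ k * (D ⟨x, le_left hφ x.2⟩ : E) =
          π ⟨x, le_left hφ x.2⟩ ^ k * (D ⟨φ x, apply_mem hφ x⟩ : E) := by
  classical
  obtain ⟨X, iX, iA, hst, hbal, k, hk, hcard⟩ := exists_stable_biset hS hF
  haveI := iX
  let Q := Quotient (rightRel S S X)
  letI : Fintype Q := Fintype.ofFinite _
  have hQ : Fintype.card Q = k := by
    rw [← Nat.card_eq_fintype_card]
    exact Nat.eq_of_mul_eq_mul_left Nat.card_pos
      ((CfsgLib.PPowerIndex.card_orbits hst).symm.trans hcard)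
  haveI : (T.subgroupOf S).Normal := (Subgroup.normal_subgroupOf_iff_le_normalizer hT.1).2
    (FusionFactor.le_normalizer_of_stronglyClosed hT)
  let q : S →* S ⧸ T.subgroupOf S := QuotientGroup.mk' _
  have hq : ∀ s : S, q s = 1 ↔ (s : Ω) ∈ T := fun s =>
    (QuotientGroup.eq_one_iff s).trans Subgroup.mem_subgroupOf
  -- the reduction of the biset
  obtain ⟨η, hη⟩ := exists_equivariant_set (X := X)
    (fun (g : S × S) (e : S ⧸ T.subgroupOf S) => q g.2 * e * (q g.1)⁻¹)
    (fun g h e => by simp [mul_assoc]) (fun x => by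
      obtain ⟨R, θ, hθ, hv⟩ := hst x
      obtain ⟨s, hs, hsv⟩ := exists_conj_mod hS hF hT hhyp hθ
      refine ⟨(q ⟨s, hs⟩)⁻¹, fun a ha => ?_⟩
      obtain ⟨hR, hθa⟩ := hv a ha
      have h1 : q ((⟨s, hs⟩ * a.2 * ⟨s, hs⟩⁻¹)⁻¹ * a.1) = 1 := (hq _).2 (by
        have := hsv ⟨_, hR⟩
        rwa [hθa] at this)
      rw [map_mul, map_inv, inv_mul_eq_one] at h1
      rw [← h1, map_mul, map_mul, map_inv]
      group)
  have hfree : ∀ (x : X) (t : S), ((1, t) : S × S) • x = x → t = 1 := by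
    intro x t h
    obtain ⟨R, θ, hθ, hv⟩ := hst x
    obtain ⟨hR, hθt⟩ := hv _ h
    exact Subtype.ext (congrArg Subtype.val
      (F.injective_of_mem hθ (hθt.trans (map_one θ).symm) : (⟨t, hR⟩ : R) = 1) :)
  have hmk : ∀ (t : S) (x : X),
      Quotient.mk (rightRel S S X) (((1, t) : S × S) • x) = Quotient.mk (rightRel S S X) x :=
    fun t x => (Quotient.sound (show (rightRel S S X).r x _ from ⟨t, rfl⟩)).symm
  -- a transversal of the right orbits on which the reduction is trivial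
  have hex : ∀ w : Q, ∃ x : X, Quotient.mk (rightRel S S X) x = w ∧ η x = 1 := fun w => by
    obtain ⟨t, ht⟩ := QuotientGroup.mk'_surjective (T.subgroupOf S) (η w.out)⁻¹
    refine ⟨((1, t) : S × S) • w.out, ?_, ?_⟩
    · exact (hmk t w.out).trans w.out_eq
    · rw [hη]
      show q t * η w.out * (q 1)⁻¹ = 1
      rw [show q t = (η w.out)⁻¹ from ht, inv_mul_cancel, map_one, inv_one, mul_one]
  choose r hr hr1 using hex
  have huniq : ∀ (t t' : S) (w w' : Q),
      ((1, t) : S × S) • r w = ((1, t') : S × S) • r w' → w = w' ∧ t = t' := by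
    intro t t' w w' h
    have hw : w = w' := by
      have := congrArg (Quotient.mk (rightRel S S X)) h
      rwa [hmk, hmk, hr, hr] at this
    subst hw
    refine ⟨rfl, ?_⟩
    have h1 : ((1, t'⁻¹ * t) : S × S) • r w = r w := by
      rw [show ((1, t'⁻¹ * t) : S × S) = ((1, t') : S × S)⁻¹ * ((1, t) : S × S) by simp,
        mul_smul, h, inv_smul_smul]
    exact (inv_mul_eq_one.1 (hfree _ _ h1)).symm
  have hdec : ∀ x : X, ∃ (t : S) (w : Q), ((1, t) : S × S) • r w = x := fun x => by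
    obtain ⟨t, ht⟩ := Quotient.exact (hr (Quotient.mk (rightRel S S X) x))
    exact ⟨t, _, ht⟩
  -- the cocycle
  choose c ρ hcρ using fun (v : S) (w : Q) => hdec (((v, 1) : S × S) • r w)
  have hmulc : ∀ u v w, ρ (u * v) w = ρ u (ρ v w) ∧ c (u * v) w = c v w * c u (ρ v w) := by
    intro u v w
    refine huniq _ _ _ _ ?_
    rw [hcρ, show ((1, c v w * c u (ρ v w)) : S × S) = ((1, c v w) : S × S) * (1, c u (ρ v w)) by
        simp, mul_smul, hcρ, ← mul_smul,
      show ((1, c v w) : S × S) * (u, 1) = ((u, 1) : S × S) * (1, c v w) by simp, mul_smul, hcρ,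
      ← mul_smul, Prod.mk_mul_mk, mul_one]
  have hρ1 : ∀ w, ρ 1 w = w := fun w => (huniq (c 1 w) 1 _ _ (by
    rw [hcρ, show ((1, 1) : S × S) = 1 from rfl, one_smul])).1
  have hρbij : ∀ v, Function.Bijective (ρ v) := fun v =>
    Finite.injective_iff_bijective.1 fun a b h => by
      rw [← hρ1 a, ← hρ1 b, ← inv_mul_cancel v, (hmulc _ _ a).1, (hmulc _ _ b).1, h]
  have hcT : ∀ v w, ((c v w * v : S) : Ω) ∈ T := fun v w => (hq _).1 (by
    have h1 := congrArg η (hcρ v w)
    rw [hη, hη, hr1, hr1] at h1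
    change q (c v w) * 1 * (q 1)⁻¹ = q 1 * 1 * (q v)⁻¹ at h1
    rw [map_one, inv_one, mul_one, mul_one, one_mul] at h1
    rw [map_mul, h1, one_mul, inv_mul_cancel])
  letI : CommGroup (Subgroup.center E) :=
    { (inferInstance : Group (Subgroup.center E)) with
      mul_comm := fun a b => Subtype.ext (Subgroup.mem_center_iff.1 b.2 a) }
  let d : S → Q → Subgroup.center E := fun v w => ⟨π (c v w * v), hc _ (hcT v w)⟩
  have hd : ∀ u v w, d (u * v) w = d u (ρ v w) * d v w := by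
    intro u v w
    refine Subtype.ext ?_
    show π (c (u * v) w * (u * v)) = π (c u (ρ v w) * u) * π (c v w * v)
    rw [(hmulc u v w).2]
    have hz := Subgroup.mem_center_iff.1 (hc _ (hcT u (ρ v w))) (π (c v w))
    calc π (c v w * c u (ρ v w) * (u * v)) = π (c v w) * π (c u (ρ v w) * u) * π v := by
          simp only [map_mul, mul_assoc]
      _ = π (c u (ρ v w) * u) * π (c v w) * π v := by rw [hz]
      _ = _ := by simp only [map_mul, mul_assoc]
  let D : S →* Subgroup.center E := MonoidHom.mk' (fun v => ∏ w : Q, d v w) fun u v => by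
    show ∏ w : Q, d (u * v) w = (∏ w : Q, d u w) * ∏ w : Q, d v w
    simp only [hd, Finset.prod_mul_distrib]
    rw [Fintype.prod_bijective (ρ v) (hρbij v) (fun w => d u (ρ v w)) (d u) fun w => rfl]
  refine ⟨k, D, hk, fun v => ?_, fun P φ hφ x hx => ?_⟩
  · show (∏ w : Q, d v w) ^ p = 1
    rw [← Finset.prod_pow]
    exact Finset.prod_eq_one fun w _ => Subtype.ext (hp _ (hcT v w))
  obtain ⟨σ, hσ1, hσ2⟩ := exists_stable_perm hst hbal hφ
  set xS : S := ⟨x, le_left hφ x.2⟩ with hxS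
  set yS : S := ⟨φ x, apply_mem hφ x⟩ with hyS
  have hyT : (yS : Ω) ∈ T := FusionFactor.apply_mem_of_stronglyClosed hT hφ hx
  choose b τ hbτ using fun w => hdec (σ (r w))
  have hτbij : Function.Bijective τ := Finite.surjective_iff_bijective.1 fun w => by
    obtain ⟨t, w₀, hw₀⟩ := hdec (σ.symm (r w))
    refine ⟨w₀, (huniq (t * b w₀) 1 (τ w₀) w ?_).1⟩
    rw [show ((1, t * b w₀) : S × S) = ((1, t) : S × S) * (1, b w₀) by simp, mul_smul, hbτ, ← hσ1,
      hw₀, σ.apply_symm_apply, show ((1, 1) : S × S) = 1 from rfl, one_smul]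
  have hkey : ∀ w, b w * c yS (τ w) = c xS w * b (ρ xS w) := fun w => (huniq _ _
      (ρ yS (τ w)) (τ (ρ xS w)) (by
    have h1 := hσ2 x (r w)
    rw [← hcρ xS w, hσ1, ← hbτ, ← hbτ, ← mul_smul, ← mul_smul,
      show ((1, c xS w) : S × S) * (1, b (ρ xS w)) = (1, c xS w * b (ρ xS w)) by simp,
      show ((yS, 1) : S × S) * (1, b w) = (1, b w) * (yS, 1) by simp, mul_smul, ← hcρ, ← mul_smul,
      show ((1, b w) : S × S) * (1, c yS (τ w)) = (1, b w * c yS (τ w)) by simp] at h1
    exact h1.symm)).2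
  have hmem : ∀ (v : S), (v : Ω) ∈ T → ∀ w, (c v w : Ω) ∈ T := fun v hv w => by
    simpa using T.mul_mem (hcT v w) (T.inv_mem hv)
  let cx : Q → Subgroup.center E := fun w => ⟨π (c xS w), hc _ (hmem xS hx w)⟩
  let cy : Q → Subgroup.center E := fun w => ⟨π (c yS w), hc _ (hmem yS hyT w)⟩
  -- the correction is a coboundary
  have hout : ∀ e : E, ((QuotientGroup.mk e : E ⧸ Subgroup.center E).out)⁻¹ * e ∈ Subgroup.center E :=
    fun e => QuotientGroup.eq.1 (QuotientGroup.out_eq' _)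
  let z : Q → Subgroup.center E := fun w => ⟨_, hout (π (b w))⟩
  have hcl : ∀ w, cy (τ w) = cx w * ((z w)⁻¹ * z (ρ xS w)) := by
    intro w
    have h1 := congrArg π (hkey w)
    rw [map_mul, map_mul] at h1
    have hcx := Subgroup.mem_center_iff.1 (cx w).2 (π (b (ρ xS w)))
    have hw : (π (b w))⁻¹ * π (b (ρ xS w)) ∈ Subgroup.center E := by
      have h2 := mul_mem (cy (τ w)).2 (inv_mem (cx w).2)
      convert h2 using 1
      show _ = π (c yS (τ w)) * (π (c xS w))⁻¹
      have h3 : π (c yS (τ w)) = (π (b w))⁻¹ * π (b (ρ xS w)) * π (c xS w) := by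
        rw [mul_assoc, show π (b (ρ xS w)) * π (c xS w) = π (c xS w) * π (b (ρ xS w)) from hcx, ← h1,
          inv_mul_cancel_left]
      rw [h3, mul_inv_cancel_right]
    refine Subtype.ext ?_
    show π (c yS (τ w)) = π (c xS w) *
      ((_⁻¹ * π (b w))⁻¹ * ((QuotientGroup.mk (π (b (ρ xS w))) : E ⧸ Subgroup.center E).out⁻¹ *
        π (b (ρ xS w))))
    rw [← QuotientGroup.eq.2 hw, mul_inv_rev, inv_inv, mul_assoc, mul_inv_cancel_left,
      ← mul_assoc, ← Subgroup.mem_center_iff.1 (cx w).2 (π (b w))⁻¹, mul_assoc, ← h1,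
      inv_mul_cancel_left]
  have hprod : ∏ w : Q, cy w = ∏ w : Q, cx w := by
    rw [← Fintype.prod_bijective τ hτbij (fun w => cy (τ w)) cy fun w => rfl]
    simp only [hcl, Finset.prod_mul_distrib, Finset.prod_inv_distrib]
    rw [Fintype.prod_bijective (ρ xS) (hρbij xS) (fun w => z (ρ xS w)) z fun w => rfl,
      inv_mul_cancel, mul_one]
  have hD : ∀ (v : S) (hv : (v : Ω) ∈ T), (D v : E) =
      ((∏ w : Q, (⟨π (c v w), hc _ (hmem v hv w)⟩ : Subgroup.center E) :
        Subgroup.center E) : E) * π v ^ k := by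
    intro v hv
    show ((∏ w : Q, d v w : Subgroup.center E) : E) = _
    rw [show (∏ w : Q, d v w) = (∏ w : Q, (⟨π (c v w), hc _ (hmem v hv w)⟩ : Subgroup.center E)) *
      (⟨π v, hc _ hv⟩ : Subgroup.center E) ^ Fintype.card Q by
        rw [← Finset.card_univ, ← Finset.prod_const, ← Finset.prod_mul_distrib]
        exact Finset.prod_congr rfl fun w _ => Subtype.ext (map_mul π _ _), hQ]
    rfl
  have hcomm : ∀ a, π yS ^ k * a = a * π yS ^ k := fun a =>
    (Subgroup.mem_center_iff.1 (pow_mem (hc _ hyT) k) a).symm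
  rw [hD xS hx, hD yS hyT]
  rw [show (∏ w : Q, (⟨π (c yS w), hc _ (hmem yS hyT w)⟩ : Subgroup.center E)) =
    ∏ w : Q, (⟨π (c xS w), hc _ (hmem xS hx w)⟩ : Subgroup.center E) from hprod]
  rw [← mul_assoc, hcomm, mul_assoc, hcomm (π xS ^ k), ← mul_assoc, ← mul_assoc]
  exact congrArg (· * _) (Subgroup.mem_center_iff.1 (pow_mem (hc _ hx) k) _)

end CfsgLib.FusionTate
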