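import Cfsg.Agent.FusionBiset.Transfer
import Cfsg.Agent.Fusion.Hyperfocal
import Cfsg.Agent.Transfer.Residual
import Cfsg.Agent.FusionClosed.StronglyClosed
import Mathlib.GroupTheory.Frattini
import Mathlib.GroupTheory.Nilpotent

/-!
# Tate's theorem for fusion systems

`hyperfocal_eq_bot_of_le_frattini`: if `hyp(F)` lies in `Φ(S)`, then it is trivial.

Write `T = hyp(F)`, `M = [T, S]`, `A = T / M` (central in `S / M`).  A right equivariant lift
`D : X → S / M` of a biequivariant map from the characteristic biset to `S / T` gives a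
homomorphism `τ : S → A`; on `T` it is the transfer times `t ↦ t ^ (-k)`, and the transfer
is trivial on `T`.
-/

set_option autoImplicit false

namespace CfsgLib.FusionTate

open Cfsg Cfsg.FusionSystem CfsgLib.Fusion CfsgLib.FusionBiset CfsgLib.FusionClosed
open scoped commutatorElement

/-- An equivariant map, prescribed on representatives, for any action on the target. -/
theorem exists_equivariant_map {K X Y : Type*} [Group K] [MulAction K X] (act : K → Y → Y)
    (h1 : ∀ y, act 1 y = y) (hm : ∀ a b y, act (a * b) y = act a (act b y)) (y : X → Y)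
    (h : ∀ (x : X) (k : K), k • x = x → act k (y x) = y x) :
    ∃ D : X → Y, (∀ k x, D (k • x) = act k (D x)) ∧
      ∀ x, ∃ k x0, k • x0 = x ∧ D x = act k (y x0) := by
  classical
  let r := MulAction.orbitRel K X
  let rep : X → X := fun x => Quotient.out (Quotient.mk r x)
  have hrep : ∀ x : X, ∃ k : K, k • rep x = x :=
    fun x => (MulAction.orbitRel_apply.1 (r.symm' (Quotient.mk_out (s := r) x)) :)
  choose c hc using hrep
  refine ⟨fun x => act (c x) (y (rep x)), fun k x => ?_, fun x => ⟨c x, rep x, hc x, rfl⟩⟩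
  have hq : rep (k • x) = rep x :=
    congrArg Quotient.out (Quotient.sound (MulAction.mem_orbit x k) : Quotient.mk r (k • x) = _)
  have h1' := hc (k • x)
  rw [hq] at h1'
  have h2 : ((k * c x)⁻¹ * c (k • x)) • rep x = rep x := by
    rw [mul_smul, h1', inv_smul_eq_iff, mul_smul, hc x]
  show act (c (k • x)) (y (rep (k • x))) = act k (act (c x) (y (rep x)))
  rw [hq, ← hm]
  conv_lhs => rw [show c (k • x) = (k * c x) * ((k * c x)⁻¹ * c (k • x)) by group, hm, h _ _ h2]

/-- A normal subgroup of a nilpotent group inside its commutator with the group is trivial. -/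
theorem eq_bot_of_le_commutator {G : Type*} [Group G] [Group.IsNilpotent G] (T : Subgroup G)
    (h : T ≤ ⁅T, (⊤ : Subgroup G)⁆) : T = ⊥ := by
  obtain ⟨n, hn⟩ := (Subgroup.nilpotent_iff_lowerCentralSeries (G := G)).1 inferInstance
  have key : ∀ i, T ≤ Subgroup.lowerCentralSeries (⊤ : Subgroup G) i := by
    intro i
    induction i with
    | zero => simp
    | succ i ih =>
      refine h.trans ((Subgroup.commutator_mono ih le_rfl).trans ?_)
      rfl
  exact le_bot_iff.1 (hn ▸ key n)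

variable {Ω : Type*} [Group Ω] {S : Subgroup Ω} {F : FusionSystem S} {p : ℕ}

/-- Every map of the system is, modulo the hyperfocal subgroup, conjugation in `S`. -/
theorem exists_conj_of_residual [Finite S] [Fact p.Prime] (hS : IsPGroup p S)
    (hF : F.IsSaturated p) {R : Type*} [Group R] (g : S →* R)
    (hg : ∀ t : S, (t : Ω) ∈ F.hyperfocalSubgroup p → g t = 1) {P : Subgroup Ω} {φ : P →* Ω}
    (hφ : φ ∈ F.Hom P) :
    ∃ r : S, ∀ x : P, g ⟨φ x, apply_mem hφ x⟩ = g r * g ⟨x, le_left hφ x.2⟩ * (g r)⁻¹ := by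
  let E : FusionSystem S :=
    { Hom := fun P => {φ | φ ∈ F.Hom P ∧ ∃ r : S, ∀ (x : P) (h1 : φ x ∈ S) (h2 : (x : Ω) ∈ S),
        g ⟨φ x, h1⟩ = g r * g ⟨x, h2⟩ * (g r)⁻¹}
      le_of_mem := fun h => F.le_of_mem h.1
      injective_of_mem := fun h => F.injective_of_mem h.1
      conj_mem := fun {P s} hP hs => ⟨F.conj_mem hP hs, ⟨s, hs⟩, fun x h1 h2 => by
        rw [← map_inv, ← map_mul, ← map_mul]
        rfl⟩
      comp_mem := fun {P Q φ ψ} ⟨hφ, a, ha⟩ ⟨hψ, b, hb⟩ h =>
        ⟨F.comp_mem hφ hψ h, b * a, fun x h1 h2 => by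
          have e1 := hb ⟨φ x, h x⟩ h1 (apply_mem hφ x)
          have e2 := ha x (apply_mem hφ x) h2
          simp only at e1
          show g ⟨ψ ⟨φ x, h x⟩, h1⟩ = _
          rw [e1, e2, map_mul]
          group⟩
      inv_mem := fun {P φ} ⟨hφ, a, ha⟩ => by
        obtain ⟨ψ, hψ, hv⟩ := F.inv_mem hφ
        refine ⟨ψ, ⟨hψ, a⁻¹, ?_⟩, hv⟩
        rintro ⟨_, x, rfl⟩ h1 h2
        have hx := ha x (apply_mem hφ x) (le_left hφ x.2)
        have e : (⟨ψ ⟨φ x, x, rfl⟩, h1⟩ : S) = ⟨x, le_left hφ x.2⟩ := Subtype.ext (hv x)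
        show g ⟨ψ ⟨φ x, x, rfl⟩, h1⟩ = g a⁻¹ * g ⟨φ x, h2⟩ * (g a⁻¹)⁻¹
        rw [e, hx, map_inv]
        group }
  obtain ⟨-, r, hr⟩ := mem_le_of_pResidual hS hF (D := E) (fun Q hQ α hα =>
    ⟨(mem_autGroup_iff hQ).1 (Subgroup.map_subtype_le _ hα), 1, fun x h1 h2 => by
      rw [map_one, one_mul, inv_one, mul_one]
      refine (inv_mul_eq_one.1 ?_).symm
      rw [← map_inv, ← map_mul]
      exact hg _ (inv_mul_apply_mem_hyperfocal hQ hα x)⟩) hφ
  exact ⟨r, fun x => hr x _ _⟩

/-- **Tate's theorem.** -/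
theorem hyperfocal_eq_bot_of_le_frattini [Finite S] [Fact p.Prime] (hS : IsPGroup p S)
    (hF : F.IsSaturated p) (hΦ : (F.hyperfocalSubgroup p).subgroupOf S ≤ frattini S) :
    F.hyperfocalSubgroup p = ⊥ := by
  classical
  obtain ⟨H, hH⟩ : ∃ H, H = F.hyperfocalSubgroup p := ⟨_, rfl⟩
  have hHS : H ≤ S := hH ▸ hyperfocal_le
  have hsc : F.StronglyClosed H := hH ▸ stronglyClosed_hyperfocal hS hF
  rw [← hH] at hΦ ⊢
  let T : Subgroup S := H.subgroupOf S
  haveI hTn : T.Normal := ⟨fun t ht s => by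
    show (s : Ω) * t * (s : Ω)⁻¹ ∈ H
    rw [hH]
    exact conj_mem_hyperfocal s.2 (hH ▸ ht)⟩
  haveI := hS.isNilpotent
  suffices hT : T ≤ ⁅T, (⊤ : Subgroup S)⁆ by
    refine le_bot_iff.1 fun t ht => ?_
    have h1 : (⟨t, hHS ht⟩ : S) ∈ T := ht
    rw [eq_bot_of_le_commutator T hT, Subgroup.mem_bot] at h1
    exact congrArg Subtype.val h1
  obtain ⟨M, hM⟩ : ∃ M, M = ⁅T, (⊤ : Subgroup S)⁆ := ⟨_, rfl⟩
  haveI : M.Normal := hM ▸ inferInstance
  rw [← hM]
  let π := QuotientGroup.mk' M
  let A : Subgroup (S ⧸ M) := T.map π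
  have hAc : ∀ a ∈ A, ∀ b : S ⧸ M, a * b = b * a := by
    rintro _ ⟨t, ht, rfl⟩ b
    obtain ⟨s, rfl⟩ := QuotientGroup.mk'_surjective M b
    have h1 : π ⁅t, s⁆ = 1 := (QuotientGroup.eq_one_iff _).2
      (hM ▸ Subgroup.commutator_mem_commutator ht (Subgroup.mem_top s))
    rw [map_commutatorElement] at h1
    exact commutatorElement_eq_one_iff_mul_comm.1 h1
  haveI : A.Normal := ⟨fun a ha g => by rw [← hAc a ha g, mul_inv_cancel_right]; exact ha⟩
  letI : CommGroup A :=
    { (inferInstance : Group A) with mul_comm := fun a b => Subtype.ext (hAc a a.2 b) }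
  have hmap : ∀ t : S, (t : Ω) ∈ H → π t ∈ A := fun t ht => Subgroup.mem_map_of_mem π ht
  let π' : S →* (S ⧸ M) ⧸ A := (QuotientGroup.mk' A).comp π
  have hπ' : ∀ t : S, (t : Ω) ∈ F.hyperfocalSubgroup p → π' t = 1 := fun t ht =>
    (QuotientGroup.eq_one_iff _).2 (hmap t (hH ▸ ht))
  -- the biset
  obtain ⟨X, _, _, hst, hbal, k, hk, hcard⟩ := exists_stable_biset hS hF
  have hfree : ∀ (x : X) (t : S), ((1, t) : S × S) • x = x → t = 1 := by
    intro x t h
    obtain ⟨R, θ, hθ, hv⟩ := hst x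
    obtain ⟨hR, hθt⟩ := hv _ h
    exact Subtype.ext (congrArg Subtype.val
      (F.injective_of_mem hθ (hθt.trans (map_one θ).symm) : (⟨t, hR⟩ : R) = 1) :)
  obtain ⟨θ, hθ, -⟩ : ∃ θ : X → (S ⧸ M) ⧸ A,
      (∀ (a : S × S) (x : X), θ (a • x) = π' a.1 * θ x * (π' a.2)⁻¹) ∧ True := by
    have hy : ∀ x : X, ∃ r : S, ∀ a : S × S, a • x = x → π' a.1 * π' r * (π' a.2)⁻¹ = π' r := by
      intro x
      obtain ⟨R, θ, hθ, hv⟩ := hst x
      obtain ⟨r, hr⟩ := exists_conj_of_residual hS hF π' hπ' hθ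
      refine ⟨r, fun a ha => ?_⟩
      obtain ⟨hR, hθa⟩ := hv a ha
      have h1 := hr ⟨a.2, hR⟩
      simp only at h1
      rw [show (⟨θ ⟨a.2, hR⟩, apply_mem hθ _⟩ : S) = a.1 from Subtype.ext hθa] at h1
      rw [h1, show (⟨((a.2 : S) : Ω), le_left hθ hR⟩ : S) = a.2 from Subtype.ext rfl]
      group
    choose r hr using hy
    obtain ⟨θ, h, -⟩ := exists_equivariant_map (K := S × S) (X := X)
      (fun a q => π' a.1 * q * (π' a.2)⁻¹) (fun q => by simp)
      (fun a b q => by simp only [Prod.fst_mul, Prod.snd_mul, map_mul]; group)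
      (fun x => π' (r x)) hr
    exact ⟨θ, h, trivial⟩
  obtain ⟨D, hD, hDθ⟩ : ∃ D : X → S ⧸ M,
      (∀ (t : S) (x : X), D (((1, t) : S × S) • x) = D x * (π t)⁻¹) ∧
        ∀ x, QuotientGroup.mk' A (D x) = θ x := by
    let act : MulAction S X := MulAction.compHom X (MonoidHom.inr S S)
    obtain ⟨D, hD, hD'⟩ := exists_equivariant_map (K := S) (X := X)
      (fun t e => e * (π t)⁻¹) (fun e => by simp) (fun a b e => by
        simp only [map_mul]; group) (fun x => (θ x).out) (fun x t ht => by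
          rw [hfree x t ht, map_one, inv_one, mul_one])
    refine ⟨D, hD, fun x => ?_⟩
    obtain ⟨t, x0, hx, he⟩ := hD' x
    have hx' : ((1, t) : S × S) • x0 = x := hx
    rw [he, ← hx', hθ, map_mul, map_inv]
    show (QuotientGroup.mk' A (θ x0).out) * _ = _
    rw [QuotientGroup.mk'_apply, QuotientGroup.out_eq']
    simp [π']
  let r := rightRel S S X
  haveI : Fintype (Quotient r) := Fintype.ofFinite _
  -- the left action on the right orbits
  let σ : S → Quotient r → Quotient r := fun u =>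
    Quotient.map (fun x => ((u, 1) : S × S) • x) (by
      rintro x _ ⟨t, rfl⟩
      exact ⟨t, by simp only [← mul_smul, Prod.mk_mul_mk, mul_one, one_mul]⟩)
  have hσ : ∀ u, Function.Bijective (σ u) := fun u => by
    refine Finite.surjective_iff_bijective.1 fun q => ?_
    induction q using Quotient.inductionOn with
    | _ y =>
      exact ⟨⟦((u⁻¹, 1) : S × S) • y⟧, congrArg (Quotient.mk r) (by
        show ((u, 1) : S × S) • ((u⁻¹, 1) : S × S) • y = y
        rw [← mul_smul, Prod.mk_mul_mk, mul_inv_cancel, one_mul]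
        exact one_smul _ y)⟩
  have hcomm : ∀ (u t : S) (x : X), ((u, 1) : S × S) • ((1, t) : S × S) • x =
      ((1, t) : S × S) • ((u, 1) : S × S) • x := fun u t x => by
    simp only [← mul_smul, Prod.mk_mul_mk, mul_one, one_mul]
  let IsD : (X → S ⧸ M) → Prop := fun D =>
    ∀ (t : S) (x : X), D (((1, t) : S × S) • x) = D x * (π t)⁻¹
  let ratio : ∀ D, IsD D → S → Quotient r → S ⧸ M := fun D hD u q =>
    Quotient.liftOn q (fun x => D (((u, 1) : S × S) • x) * (D x)⁻¹) (by
      rintro x _ ⟨t, rfl⟩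
      show _ = D _ * (D _)⁻¹
      rw [hcomm, hD, hD]
      group)
  let toA : (S ⧸ M) → A := fun e => if h : e ∈ A then ⟨e, h⟩ else 1
  have toA_val : ∀ {e}, e ∈ A → (toA e : S ⧸ M) = e := fun {e} h => by simp [toA, h]
  let Λ : ∀ D, IsD D → S → A := fun D hD u => ∏ q, toA (ratio D hD u q)
  -- the homomorphism
  have haA : ∀ u q, (π u)⁻¹ * ratio D hD u q ∈ A := by
    intro u q
    induction q using Quotient.inductionOn with
    | _ x =>
      show (π u)⁻¹ * (D _ * (D x)⁻¹) ∈ A
      rw [← QuotientGroup.eq_one_iff]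
      show QuotientGroup.mk' A _ = 1
      simp only [map_mul, map_inv, hDθ, hθ]
      simp [π']
  let a : S → Quotient r → A := fun u q => ⟨_, haA u q⟩
  let τ : S →* A := MonoidHom.mk' (fun u => ∏ q, a u q) fun u v => by
    show _ = (∏ q, a u q) * ∏ q, a v q
    rw [← Fintype.prod_bijective (σ v) (hσ v) (fun q => a u (σ v q)) (a u) fun q => rfl,
      ← Finset.prod_mul_distrib]
    refine Finset.prod_congr rfl fun q _ => Subtype.ext ?_
    induction q using Quotient.inductionOn with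
    | _ x =>
      show (π (u * v))⁻¹ * (D (((u * v, 1) : S × S) • x) * (D x)⁻¹) =
        ((π u)⁻¹ * (D (((u, 1) : S × S) • ((v, 1) : S × S) • x) * (D (((v, 1) : S × S) • x))⁻¹)) *
          ((π v)⁻¹ * (D (((v, 1) : S × S) • x) * (D x)⁻¹))
      have h : (π u)⁻¹ * (D (((u, 1) : S × S) • ((v, 1) : S × S) • x) *
          (D (((v, 1) : S × S) • x))⁻¹) * (π v)⁻¹ = (π v)⁻¹ * ((π u)⁻¹ *
            (D (((u, 1) : S × S) • ((v, 1) : S × S) • x) * (D (((v, 1) : S × S) • x))⁻¹)) :=
        hAc _ (haA u ⟦((v, 1) : S × S) • x⟧) (π v)⁻¹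
      rw [← mul_assoc _ (π v)⁻¹, h, ← mul_smul, Prod.mk_mul_mk, one_mul, map_mul]
      group
  have hn : Fintype.card (Quotient r) = k := by
    have h1 : Nat.card X = Nat.card S * Nat.card (Quotient r) := by
      rw [← Nat.card_prod]
      refine Nat.card_congr (Equiv.ofBijective
        (fun a : S × Quotient r => ((1, a.1) : S × S) • a.2.out) ⟨?_, ?_⟩).symm
      · rintro ⟨a, q⟩ ⟨b, q'⟩ h
        simp only at h
        have h' : ((1, b⁻¹ * a) : S × S) • q.out = q'.out := by
          rw [show ((1, b⁻¹ * a) : S × S) = ((1, b) : S × S)⁻¹ * ((1, a) : S × S) by simp,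
            mul_smul, h, inv_smul_smul]
        obtain rfl : q = q' := by
          rw [← Quotient.out_eq q, ← Quotient.out_eq q']
          exact Quotient.sound ⟨b⁻¹ * a, h'⟩
        obtain rfl := inv_mul_eq_one.1 (hfree _ _ h')
        rfl
      · intro x
        obtain ⟨s, hs⟩ := Quotient.mk_out (s := r) x
        exact ⟨(s, ⟦x⟧), hs⟩
    rw [← Nat.card_eq_fintype_card]
    exact Nat.eq_of_mul_eq_mul_left Nat.card_pos (h1.symm.trans hcard)
  have hrT : ∀ u : S, (u : Ω) ∈ H → ∀ q, ratio D hD u q ∈ A := fun u hu q => by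
    simpa [← mul_assoc] using A.mul_mem (hmap u hu) (haA u q)
  have hτT : ∀ (u : S) (hu : (u : Ω) ∈ H),
      τ u = (⟨π u, hmap u hu⟩ : A)⁻¹ ^ k * Λ D hD u := by
    intro u hu
    show ∏ q, a u q = _
    rw [show (∏ q, a u q) = ∏ q, (⟨π u, hmap u hu⟩ : A)⁻¹ * toA (ratio D hD u q) from
      Finset.prod_congr rfl fun q _ => Subtype.ext (by
        show (π u)⁻¹ * _ = (π u)⁻¹ * _
        rw [toA_val (hrT u hu q)]), Finset.prod_mul_distrib, Finset.prod_const, Finset.card_univ,
      hn]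
  -- the transfer does not depend on the lift
  have hindep : ∀ D' (hD' : IsD D') (u : S), (u : Ω) ∈ H → (∀ q, ratio D' hD' u q ∈ A) →
      Λ D' hD' u = Λ D hD u := by
    intro D' hD' u hu hu'
    let c : Quotient r → S ⧸ M := fun q => Quotient.liftOn q (fun x => D' x * (D x)⁻¹) (by
      rintro x _ ⟨t, rfl⟩
      show _ = D' _ * (D _)⁻¹
      rw [hD t, hD' t]
      group)
    have hmul : ∀ q, c (σ u q) = ratio D' hD' u q * (ratio D hD u q)⁻¹ * c q := by
      intro q
      have h2 := hAc _ (A.inv_mem (hrT u hu q)) (c q)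
      rw [mul_assoc, h2]
      induction q using Quotient.inductionOn with
      | _ x =>
        show D' _ * (D _)⁻¹ =
          D' _ * (D' x)⁻¹ * ((D' x * (D x)⁻¹) * (D (((u, 1) : S × S) • x) * (D x)⁻¹)⁻¹)
        group
    have hmk : ∀ q, QuotientGroup.mk' A (c (σ u q)) = QuotientGroup.mk' A (c q) := fun q => by
      rw [hmul q, map_mul, show QuotientGroup.mk' A (ratio D' hD' u q * (ratio D hD u q)⁻¹) = 1 from
        (QuotientGroup.eq_one_iff _).2 (A.mul_mem (hu' q) (A.inv_mem (hrT u hu q))), one_mul]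
    have hb : ∀ q, c q * ((QuotientGroup.mk' A (c q)).out)⁻¹ ∈ A := fun q => by
      rw [← QuotientGroup.eq_one_iff]
      show QuotientGroup.mk' A _ = 1
      simp only [map_mul, map_inv, QuotientGroup.mk'_apply, QuotientGroup.out_eq', mul_inv_cancel]
    let b : Quotient r → A := fun q => ⟨_, hb q⟩
    have heq : ∀ q, toA (ratio D' hD' u q) = toA (ratio D hD u q) * (b (σ u q) * (b q)⁻¹) := by
      intro q
      apply Subtype.ext
      show (toA _ : S ⧸ M) = (toA _ : S ⧸ M) *
        ((c (σ u q) * ((QuotientGroup.mk' A (c (σ u q))).out)⁻¹) *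
          (c q * ((QuotientGroup.mk' A (c q)).out)⁻¹)⁻¹)
      rw [toA_val (hu' q), toA_val (hrT u hu q), hmk q, hmul q]
      calc ratio D' hD' u q = (ratio D' hD' u q * (ratio D hD u q)⁻¹) * ratio D hD u q := by group
        _ = ratio D hD u q * (ratio D' hD' u q * (ratio D hD u q)⁻¹) :=
          (hAc _ (hrT u hu q) _).symm
        _ = _ := by group
    show ∏ q, _ = ∏ q, _
    simp only [heq, Finset.prod_mul_distrib, Finset.prod_inv_distrib]
    rw [Fintype.prod_bijective (σ u) (hσ u) (fun q => b (σ u q)) b fun q => rfl, mul_inv_cancel,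
      mul_one]
  -- the transfer is invariant
  have hinv : ∀ {P : Subgroup Ω} {φ : P →* Ω} (hφ : φ ∈ F.Hom P) (x : P) (_ : (x : Ω) ∈ H),
      Λ D hD ⟨φ x, apply_mem hφ x⟩ = Λ D hD ⟨x, le_left hφ x.2⟩ := by
    intro P φ hφ x hx
    have hφx : φ x ∈ H := by
      refine hsc.2 (P ⊓ H) inf_le_right _ (restrict_mem hφ inf_le_left) ⟨x, x.2, hx⟩
    obtain ⟨ρ, hρ1, hρ2⟩ := exists_stable_perm hst hbal hφ
    have hD' : IsD (D ∘ ρ) := fun t z => by
      show D (ρ _) = _
      rw [hρ1, hD]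
      rfl
    let π₂ : Quotient r → Quotient r := Quotient.map ρ (by
      rintro y _ ⟨t, rfl⟩
      exact ⟨t, (hρ1 t y).symm⟩)
    have hπ₂ : Function.Bijective π₂ := by
      refine Finite.surjective_iff_bijective.1 fun q => ?_
      induction q using Quotient.inductionOn with
      | _ y => exact ⟨⟦ρ.symm y⟧, congrArg (Quotient.mk r) (ρ.apply_symm_apply y)⟩
    have hq : ∀ q, ratio (D ∘ ρ) hD' ⟨x, le_left hφ x.2⟩ q =
        ratio D hD ⟨φ x, apply_mem hφ x⟩ (π₂ q) := by
      intro q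
      induction q using Quotient.inductionOn with
      | _ z =>
        show D (ρ _) * (D (ρ z))⁻¹ = D _ * (D (ρ z))⁻¹
        rw [hρ2]
    rw [← hindep (D ∘ ρ) hD' ⟨x, le_left hφ x.2⟩ hx fun q => hq q ▸ hrT _ hφx _]
    refine (Fintype.prod_bijective π₂ hπ₂ _ _ fun q => ?_).symm
    rw [hq q]
  -- the transfer is trivial on the hyperfocal subgroup
  let ι : H →* S := Subgroup.inclusion hHS
  let L : H →* A := MonoidHom.mk' (fun u => Λ D hD (ι u)) fun u v => by
    have e : ∀ w : H, Λ D hD (ι w) = τ (ι w) * (⟨π (ι w), hmap _ w.2⟩ : A) ^ k := fun w => by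
      rw [hτT (ι w) w.2, inv_pow, mul_comm _ (Λ D hD _), inv_mul_cancel_right]
    rw [e, e, e, mul_mul_mul_comm, ← mul_pow, ← map_mul τ]
    refine congrArg₂ (· * ·) (congrArg τ (map_mul ι u v)) (congrArg (· ^ k) (Subtype.ext ?_))
    show π (ι (u * v)) = π (ι u) * π (ι v)
    rw [map_mul, map_mul]
  have hLconj : ∀ (u v : H) (y : Ω), y ∈ S → (v : Ω) = y * u * y⁻¹ → L v = L u := by
    intro u v y hy h
    have h' := hinv (F.conj_mem hHS hy) u u.2
    refine Eq.trans ?_ h'
    exact congrArg (Λ D hD) (Subtype.ext h)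
  have hres : ∀ (P : Subgroup Ω) (hP : P ≤ S) (α : F.autGroup P), α ∈ pResidual p (F.autGroup P) →
      ∀ (x : P) (hx : (x : Ω)⁻¹ * ((α : MulAut P) x : Ω) ∈ H), L ⟨_, hx⟩ = 1 := by
    intro P hP α hα
    haveI := finite_of_le hP
    induction hα using Subgroup.closure_induction with
    | one =>
      intro x hx
      rw [← map_one L]
      exact congrArg L (Subtype.ext (by simp))
    | mul a b ha hb iha ihb =>
      intro x hx
      have h1 : (x : Ω)⁻¹ * ((b : MulAut P) x : Ω) ∈ H :=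
        hH ▸ inv_mul_apply_mem_hyperfocal hP (Subgroup.mem_map_of_mem _ hb) x
      have h2 : ((b : MulAut P) x : Ω)⁻¹ * ((a : MulAut P) ((b : MulAut P) x) : Ω) ∈ H :=
        hH ▸ inv_mul_apply_mem_hyperfocal hP (Subgroup.mem_map_of_mem _ ha) _
      calc L ⟨_, hx⟩ = L (⟨_, h1⟩ * ⟨_, h2⟩) := congrArg L (Subtype.ext (by simp [mul_assoc]))
        _ = 1 := by rw [map_mul, ihb x h1, iha _ h2, one_mul]
    | inv a ha iha =>
      intro x hx
      have h1 : (((a⁻¹ : F.autGroup P) : MulAut P) x : Ω)⁻¹ *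
          ((a : MulAut P) (((a⁻¹ : F.autGroup P) : MulAut P) x) : Ω) ∈ H :=
        hH ▸ inv_mul_apply_mem_hyperfocal hP (Subgroup.mem_map_of_mem _ ha) _
      calc L ⟨_, hx⟩ = L (⟨_, h1⟩⁻¹) := congrArg L (Subtype.ext (by simp))
        _ = 1 := by rw [map_inv, iha _ h1, inv_one]
    | mem a ha =>
      intro x hx
      have hmem : ∀ y : P, (y : Ω)⁻¹ * ((a : MulAut P) y : Ω) ∈ H := fun y => hH ▸
        inv_mul_apply_mem_hyperfocal hP
          (Subgroup.mem_map_of_mem _ (CfsgLib.Transfer.mem_pResidual_of_coprime ha)) y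
      let f : P →* A := MonoidHom.mk' (fun y => L ⟨_, hmem y⟩) fun y z => by
        have hz : (z : Ω)⁻¹ * ((y : Ω)⁻¹ * ((a : MulAut P) y : Ω)) * z ∈ H := by
          have := conj_mem_stronglyClosed hsc (S.inv_mem (hP z.2)) (hmem y)
          simpa using this
        calc L ⟨_, hmem (y * z)⟩ = L (⟨_, hz⟩ * ⟨_, hmem z⟩) :=
              congrArg L (Subtype.ext (by simp [mul_assoc]))
          _ = _ := by
            rw [map_mul, hLconj ⟨_, hmem y⟩ ⟨_, hz⟩ (z : Ω)⁻¹ (S.inv_mem (hP z.2))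
              (by simp)]
      have hfa : ∀ y, f ((a : MulAut P) y) = f y := by
        intro y
        have h' := hinv ((mem_autGroup_iff hP).1 a.2)
          (y⁻¹ * (a : MulAut P) y) (by simpa using hmem y)
        refine Eq.trans ?_ (Eq.trans h' ?_)
        · exact congrArg (Λ D hD) (Subtype.ext (by simp [ι]))
        · exact congrArg (Λ D hD) (Subtype.ext (by simp [ι]))
      have key : ∀ (n : ℕ) (h : (x : Ω)⁻¹ * ((((a : MulAut P) ^ n) x : P) : Ω) ∈ H),
          L ⟨_, h⟩ = f x ^ n := by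
        intro n
        induction n with
        | zero =>
          intro h
          rw [pow_zero (f x), ← map_one L]
          exact congrArg L (Subtype.ext (by simp))
        | succ n ih =>
          intro h
          have h0 := hmem (((a : MulAut P) ^ n) x)
          have e : ((a : MulAut P) ^ (n + 1)) x = (a : MulAut P) (((a : MulAut P) ^ n) x) := by
            rw [pow_succ', MulAut.mul_apply]
          have h1 : (x : Ω)⁻¹ * ((((a : MulAut P) ^ n) x : P) : Ω) ∈ H := by
            have := H.mul_mem h (H.inv_mem h0)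
            simpa [e, mul_assoc] using this
          have hfn : ∀ m : ℕ, f (((a : MulAut P) ^ m) x) = f x := by
            intro m
            induction m with
            | zero => simp
            | succ m ihm => rw [pow_succ', MulAut.mul_apply, hfa, ihm]
          calc L ⟨_, h⟩ = L (⟨_, h1⟩ * ⟨_, h0⟩) :=
                congrArg L (Subtype.ext (by
                  show (x : Ω)⁻¹ * ((((a : MulAut P) ^ (n + 1)) x : P) : Ω) = _
                  rw [e]
                  simp [mul_assoc]))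
            _ = f x ^ n * f (((a : MulAut P) ^ n) x) := by rw [map_mul, ih h1]; rfl
            _ = _ := by rw [hfn, pow_succ]
      have hone' : (x : Ω)⁻¹ * ((((a : MulAut P) ^ orderOf a) x : P) : Ω) = 1 := by
        rw [← SubgroupClass.coe_pow, pow_orderOf_eq_one]
        simp
      have h1 := key (orderOf a) (by rw [hone']; exact H.one_mem)
      have hpow : f x ^ orderOf a = 1 := by
        rw [← h1, ← map_one L]
        exact congrArg L (Subtype.ext hone')
      obtain ⟨n, hn'⟩ := hS.exists_card_eq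
      have hco : (orderOf (f x)).Coprime (orderOf a) := by
        refine Nat.Coprime.coprime_dvd_left ((orderOf_map_dvd f x).trans
          ((orderOf_dvd_natCard x).trans (hn' ▸ Subgroup.card_dvd_of_le hP))) ?_
        exact (Nat.Coprime.symm ha).pow_left n
      show f x = 1
      exact orderOf_eq_one_iff.1
        (Nat.eq_one_of_dvd_coprimes hco dvd_rfl (orderOf_dvd_of_pow_eq_one hpow))
  have hΛ : ∀ (u : S) (hu : (u : Ω) ∈ H), Λ D hD u = 1 := by
    have hle : H ≤ L.ker.map H.subtype := by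
      refine hH.trans_le ((Subgroup.closure_le _).2 ?_)
      rintro _ ⟨P, α, x, hP, hα, rfl⟩
      have h1 : (x : Ω)⁻¹ * ((α : MulAut P) x : Ω) ∈ H :=
        hH ▸ inv_mul_apply_mem_hyperfocal hP (Subgroup.mem_map_of_mem _ hα) x
      exact ⟨⟨_, h1⟩, hres P hP α hα x h1, rfl⟩
    intro u hu
    obtain ⟨w, hw, hwu⟩ := hle hu
    exact (congrArg (Λ D hD) (Subtype.ext hwu.symm : u = ι w)).trans hw
  -- the conclusion
  have hpa : IsPGroup p A := (hS.to_quotient M).to_subgroup A
  have hcop : (Nat.card A).Coprime k := by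
    obtain ⟨n, hn'⟩ := hpa.exists_card_eq
    rw [hn']
    exact ((Fact.out : p.Prime).coprime_iff_not_dvd.2 hk).pow_left n
  have hker : τ.ker = ⊤ := by
    refine frattini_nongenerating (eq_top_iff.2 fun u _ => ?_)
    obtain ⟨c, hc⟩ := (powCoprime hcop).surjective (τ u)
    obtain ⟨t, ht, htc⟩ := Subgroup.mem_map.1 c.2
    have h1 : τ t⁻¹ = τ u := by
      rw [map_inv, hτT t ht, hΛ t ht, mul_one, ← hc, inv_pow, inv_inv]
      show _ = c ^ k
      exact congrArg (· ^ k) (Subtype.ext htc)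
    have h2 : u * t ∈ τ.ker := by
      rw [MonoidHom.mem_ker, map_mul, ← h1, ← map_mul, inv_mul_cancel, map_one]
    rw [show u = u * t * t⁻¹ by group]
    exact Subgroup.mul_mem _ (Subgroup.mem_sup_left h2)
      (Subgroup.mem_sup_right (inv_mem (hΦ ht)))
  intro t ht
  have h1 : τ t = 1 := MonoidHom.mem_ker.1 (hker ▸ Subgroup.mem_top t)
  rw [hτT t ht, hΛ t ht, mul_one, inv_pow, inv_eq_one] at h1
  have h2 : (⟨π t, hmap t ht⟩ : A) = 1 := by
    refine (powCoprime hcop).injective ?_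
    show (⟨π t, hmap t ht⟩ : A) ^ k = (1 : A) ^ k
    rw [h1, one_pow]
  exact (QuotientGroup.eq_one_iff t).1 (congrArg Subtype.val h2)

end CfsgLib.FusionTate
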