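import Cfsg.Agent.Fusion.Alperin
import Cfsg.Agent.FusionClosed.StronglyClosed

/-!
# Fusion modulo a strongly closed subgroup with abelian quotient
-/

set_option autoImplicit false

namespace CfsgLib.FusionTate

open Cfsg Cfsg.FusionSystem CfsgLib.Fusion CfsgLib.FusionClosed
open scoped commutatorElement

variable {Ω : Type*} [Group Ω] {S : Subgroup Ω} {F : FusionSystem S} {p : ℕ}

/-- If `M` is strongly closed, contains `[S, S]` and `Aut_F(S)` is trivial modulo `M`, then every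
map of the system is the inclusion modulo `M`. -/
theorem inv_mul_apply_mem_of_top [Finite S] [Fact p.Prime] (hS : IsPGroup p S)
    (hF : F.IsSaturated p) {M : Subgroup Ω} (hM : F.StronglyClosed M)
    (hcomm : ∀ a ∈ S, ∀ b ∈ S, a⁻¹ * (b * a * b⁻¹) ∈ M)
    (htop : ∀ α ∈ F.autGroup S, ∀ x : S, (x : Ω)⁻¹ * (α x : Ω) ∈ M) {P : Subgroup Ω}
    {φ : P →* Ω} (hφ : φ ∈ F.Hom P) (x : P) : (x : Ω)⁻¹ * φ x ∈ M := by
  let D : FusionSystem S :=
    { Hom := fun P => {φ | φ ∈ F.Hom P ∧ ∀ x : P, (x : Ω)⁻¹ * φ x ∈ M}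
      le_of_mem := fun h => F.le_of_mem h.1
      injective_of_mem := fun h => F.injective_of_mem h.1
      conj_mem := fun {P s} hP hs => ⟨F.conj_mem hP hs, fun x => hcomm _ (hP x.2) _ hs⟩
      comp_mem := fun {P Q φ ψ} hφ hψ h => ⟨F.comp_mem hφ.1 hψ.1 h, fun x => by
        have := M.mul_mem (hφ.2 x) (hψ.2 ⟨φ x, h x⟩)
        simpa [mul_assoc] using this⟩
      inv_mem := fun {P φ} hφ => by
        obtain ⟨ψ, hψ, hv⟩ := F.inv_mem hφ.1
        refine ⟨ψ, ⟨hψ, ?_⟩, hv⟩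
        rintro ⟨_, x, rfl⟩
        have e : ψ ⟨φ x, x, rfl⟩ = x := hv x
        rw [e]
        simpa using M.inv_mem (hφ.2 x) }
  have hle : F ≤ D := by
    refine le_of_step hS hF fun Q hQ IH => ?_
    suffices h : ∀ α ∈ F.autGroup Q, ∀ y : Q, (y : Ω)⁻¹ * (α y : Ω) ∈ M from
      fun α hα => (mem_autGroup_iff (F := D) hQ.1).2 ⟨(mem_autGroup_iff hQ.1).1 hα, h α hα⟩
    rcases hQ.1.eq_or_lt with rfl | hlt
    · exact htop
    haveI := finite_of_le hQ.1
    obtain ⟨⟨-, R, hR⟩, hQr⟩ := automized_receptive hS hF hQ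
    -- the automorphisms trivial modulo `M`
    let K : Subgroup (F.autGroup Q) :=
      { carrier := {β | ∀ y : Q, (y : Ω)⁻¹ * ((β : MulAut Q) y : Ω) ∈ M}
        one_mem' := fun y => by simp
        mul_mem' := fun {a b} ha hb y => by
          have := M.mul_mem (hb y) (ha ((b : MulAut Q) y))
          simpa [mul_assoc] using this
        inv_mem' := fun {a} ha y => by
          have := M.inv_mem (ha (((a⁻¹ : F.autGroup Q) : MulAut Q) y))
          simpa using this }
    have hstab : ∀ γ : F.autGroup Q, ∀ y : Q, (y : Ω) ∈ M → ((γ : MulAut Q) y : Ω) ∈ M :=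
      fun γ y hy => hM.2 (Q ⊓ M) inf_le_right _
        (restrict_mem ((mem_autGroup_iff hQ.1).1 γ.2) inf_le_left) ⟨y, y.2, hy⟩
    haveI : K.Normal := ⟨fun β hβ γ y => by
      have h1 : ((((γ⁻¹ : F.autGroup Q) : MulAut Q) y : Q)⁻¹ *
          (β : MulAut Q) (((γ⁻¹ : F.autGroup Q) : MulAut Q) y) : Ω) ∈ M := hβ _
      have h2 := hstab γ ((((γ⁻¹ : F.autGroup Q) : MulAut Q) y)⁻¹ *
        (β : MulAut Q) (((γ⁻¹ : F.autGroup Q) : MulAut Q) y)) (by simpa using h1)
      simpa using h2⟩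
    have hind : (R : Subgroup (F.autGroup Q)) ≤ K := by
      rw [hR]
      intro β hβ y
      obtain ⟨g, hg, -, hgy⟩ := mem_autInducedBy_iff.1 hβ
      show (y : Ω)⁻¹ * (((F.autGroup Q).subtype β y : Q) : Ω) ∈ M
      rw [hgy y]
      exact hcomm _ (hQ.1 y.2) _ hg
    intro α hα y
    have h1 : (⟨α, hα⟩ : F.autGroup Q) ∈
        Subgroup.normalizer ((R : Subgroup (F.autGroup Q)) : Set (F.autGroup Q)) ⊔ K := by
      have h0 := Sylow.normalizer_sup_eq_top' R hind
      exact h0.ge (Subgroup.mem_top _)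
    rw [Subgroup.mem_sup_of_normal_right] at h1
    obtain ⟨n, hn, q, hq, hnq⟩ := h1
    obtain ⟨g, hg, hgQ⟩ := SetLike.exists_of_lt (lt_normalizerIn hS hlt)
    have hn' : (n : MulAut Q) ∈ extendable F Q := by
      let β : MulAut Q := Q.normalizerMonoidHom ⟨g, hg.2⟩
      have hβ : ∀ z : Q, (β z : Ω) = g * z * g⁻¹ := fun z => rfl
      have hβI : β ∈ autInducedBy S Q := mem_autInducedBy_iff.2 ⟨g, hg.1, hg.2, hβ⟩
      refine mem_extendable_of_congr hQr n.2 hg hgQ hβ ?_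
      have hβR : (⟨β, autInducedBy_le_autGroup hQ.1 hβI⟩ : F.autGroup Q) ∈
          (R : Subgroup (F.autGroup Q)) := by
        rw [hR]
        exact hβI
      have := (Subgroup.mem_normalizer_iff.1 hn _).1 hβR
      rw [hR] at this
      exact this
    obtain ⟨U, hQU, ψ, hψ, hψn⟩ := hn'
    have hN : ∀ z : Q, (z : Ω)⁻¹ * ((n : MulAut Q) z : Ω) ∈ M := by
      intro z
      have := (IH U (card_lt_of_lt hQU (le_left hψ)) hψ).2 (Subgroup.inclusion hQU.le z)
      rwa [hψn z] at this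
    have h2 := M.mul_mem (hq y) (hN ((q : MulAut Q) y))
    have h3 : (α : MulAut Q) y = (n : MulAut Q) ((q : MulAut Q) y) := by
      rw [← MulAut.mul_apply]
      exact congrArg (fun m : MulAut Q => m y) (congrArg Subtype.val hnq).symm
    rw [h3]
    simpa [mul_assoc] using h2
  exact (hle P hφ).2 x

end CfsgLib.FusionTate
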