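import Cfsg.Agent.FusionTate.Defect
import Cfsg.Agent.Solvable.Frattini
import Cfsg.Agent.OddOrder.BG4.Basic
import Cfsg.Agent.FusionPIndex.Limit

/-!
Tate's theorem for fusion systems.
-/

set_option autoImplicit false

universe u

namespace CfsgLib.FusionTate

open Cfsg Cfsg.FusionSystem CfsgLib.Fusion
open scoped commutatorElement

variable {Ω : Type u} [Group Ω] {S : Subgroup Ω} {F : FusionSystem S} {p : ℕ}

/-- An automorphism of order prime to `p` moving every element by a fixed element of exponent `p`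
is invisible. -/
theorem hom_apply_eq_of_coprime {P E : Type*} [Group P] [Group E] [hp : Fact p.Prime] (g : P →* E)
    (α : MulAut P) (hα : (orderOf α).Coprime p)
    (h1 : ∀ y : P, g (α (y⁻¹ * α y)) = g (y⁻¹ * α y)) (h2 : ∀ y : P, g (y⁻¹ * α y) ^ p = 1)
    (y : P) : g (α y) = g y := by
  have hpow : ∀ i : ℕ, g ((α ^ i) y) = g y * g (y⁻¹ * α y) ^ i ∧
      g (((α ^ i) y)⁻¹ * α ((α ^ i) y)) = g (y⁻¹ * α y) := by
    intro i
    induction i with
    | zero => simp
    | succ i ih =>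
      have hs : (α ^ (i + 1)) y = α ((α ^ i) y) := by rw [pow_succ', MulAut.mul_apply]
      refine ⟨?_, ?_⟩
      · rw [hs, pow_succ, ← mul_assoc, ← ih.1]
        conv_rhs => rw [← ih.2]
        rw [← map_mul, mul_inv_cancel_left]
      · rw [hs, ← ih.2, ← h1 ((α ^ i) y), map_mul α, map_inv α]
  have h := (hpow (orderOf α)).1
  rw [pow_orderOf_eq_one, MulAut.one_apply, left_eq_mul] at h
  have h' : orderOf (g (y⁻¹ * α y)) = 1 := Nat.eq_one_of_dvd_coprimes hα
    (orderOf_dvd_of_pow_eq_one h) (orderOf_dvd_of_pow_eq_one (h2 y))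
  rw [orderOf_eq_one_iff, map_mul, map_inv, inv_mul_eq_one] at h'
  exact h'.symm

/-- Homomorphisms invariant under the automorphisms of order prime to `p` are invariant under the
`p`-residual. -/
theorem hom_apply_eq_of_pResidual {P : Subgroup Ω} {E : Type*} [Group E] (g : P →* E)
    (h : ∀ α : F.autGroup P, (orderOf α).Coprime p → ∀ y, g ((α : MulAut P) y) = g y)
    {α : F.autGroup P} (hα : α ∈ pResidual p (F.autGroup P)) (y : P) :
    g ((α : MulAut P) y) = g y := by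
  induction hα using Subgroup.closure_induction generalizing y with
  | mem a ha => exact h a ha y
  | one => rfl
  | mul a b _ _ ha hb => exact (ha _).trans (hb y)
  | inv a _ ha =>
    have h1 := ha ((a : MulAut P)⁻¹ y)
    rw [MulAut.apply_inv_self] at h1
    exact h1.symm

theorem eq_of_pow_eq {E : Type*} [Group E] [Fact p.Prime] {a b : E} {k : ℕ} (hk : ¬ p ∣ k)
    (hab : Commute a b) (ha : a ^ p = 1) (hb : b ^ p = 1) (h : a ^ k = b ^ k) : a = b := by
  have h1 : (a * b⁻¹) ^ p = 1 := by rw [hab.inv_right.mul_pow, inv_pow, ha, hb, inv_one, one_mul]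
  have h2 : (a * b⁻¹) ^ k = 1 := by rw [hab.inv_right.mul_pow, inv_pow, h, mul_inv_cancel]
  have h3 : orderOf (a * b⁻¹) = 1 := Nat.eq_one_of_dvd_coprimes
    ((Fact.out : p.Prime).coprime_iff_not_dvd.2 hk) (orderOf_dvd_of_pow_eq_one h1)
    (orderOf_dvd_of_pow_eq_one h2)
  rwa [orderOf_eq_one_iff, mul_inv_eq_one] at h3

/-- One step: the hyperfocal subgroup does not grow. -/
theorem hyperfocal_le_step [Finite S] [Fact p.Prime] (hS : IsPGroup p S) (hF : F.IsSaturated p)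
    {H : FusionSystem S} (hHF : H.IsSubsystemOf F) {T₁ : Subgroup Ω} (hT₁ : T₁ ≤ S)
    (hn : S ≤ Subgroup.normalizer (T₁ : Set Ω))
    (hcomm : ∀ t ∈ F.hyperfocalSubgroup p, ∀ s ∈ S, ⁅t, s⁆ ∈ T₁)
    (hpow : ∀ t ∈ F.hyperfocalSubgroup p, t ^ p ∈ T₁)
    (hH : H.hyperfocalSubgroup p ≤ T₁)
    (hle : F.hyperfocalSubgroup p ≤ (frattini S).map S.subtype ⊔ H.hyperfocalSubgroup p) :
    F.hyperfocalSubgroup p ≤ T₁ := by
  classical
  haveI : (T₁.subgroupOf S).Normal := (Subgroup.normal_subgroupOf_iff_le_normalizer hT₁).2 hn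
  let π : S →* S ⧸ T₁.subgroupOf S := QuotientGroup.mk' _
  have hπ : ∀ s : S, π s = 1 ↔ (s : Ω) ∈ T₁ := fun s =>
    (QuotientGroup.eq_one_iff s).trans Subgroup.mem_subgroupOf
  set T := F.hyperfocalSubgroup p with hT
  have hc : ∀ s : S, (s : Ω) ∈ T → π s ∈ Subgroup.center _ := fun s hs => by
    refine Subgroup.mem_center_iff.2 fun e => ?_
    obtain ⟨r, rfl⟩ := QuotientGroup.mk'_surjective (T₁.subgroupOf S) e
    have h1 : π ⁅s, r⁆ = 1 := (hπ _).2 (hcomm s hs r r.2)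
    rw [map_commutatorElement, commutatorElement_eq_one_iff_mul_comm] at h1
    exact h1.symm
  have hp : ∀ s : S, (s : Ω) ∈ T → π s ^ p = 1 := fun s hs => by
    rw [← map_pow, hπ]
    exact hpow s hs
  have hTc := stronglyClosed_hyperfocal hS hF
  obtain ⟨k, D, hk, hDp, hD⟩ := exists_defect_hom hS hF hTc le_rfl π hc hp
  have hcop : ∀ {E : Type u} [Group E] (R : Subgroup Ω) (φ : R →* E) (α : MulAut R) (y : R),
      φ (y⁻¹ * α y) = (φ y)⁻¹ * φ (α y) := fun R φ α y => by rw [map_mul, map_inv]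
  -- the defect kills the hyperfocal subgroup of `H`
  have hDH : H.hyperfocalSubgroup p ≤ D.ker.map S.subtype := by
    refine (Subgroup.closure_le _).2 ?_
    rintro _ ⟨P, α, y, hP, hα, rfl⟩
    refine ⟨⟨y, hP y.2⟩⁻¹ * ⟨((α : MulAut P) y : P), hP (Subtype.prop _)⟩, ?_, rfl⟩
    rw [SetLike.mem_coe, MonoidHom.mem_ker, map_mul, map_inv, inv_mul_eq_one]
    let g : P →* Subgroup.center (S ⧸ T₁.subgroupOf S) := D.comp (Subgroup.inclusion hP)
    refine (hom_apply_eq_of_pResidual g (fun a ha => ?_) hα y).symm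
    have haH := (mem_autGroup_iff hP).1 a.2
    have haF : IsIso F (a : MulAut P) := hHF P haH
    have hmem : ∀ z : P, (z : Ω)⁻¹ * (((a : MulAut P) z : P) : Ω) ∈ H.hyperfocalSubgroup p :=
      fun z => inv_mul_apply_mem_hyperfocal hP ⟨a, Subgroup.subset_closure ha, rfl⟩ z
    refine hom_apply_eq_of_coprime (p := p) g a (Subgroup.orderOf_coe a ▸ ha) (fun z => ?_)
      (fun z => hDp _)
    set t : P := z⁻¹ * (a : MulAut P) z with ht
    have ht₁ : (t : Ω) ∈ T₁ := hH (hmem z)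
    have htT : (t : Ω) ∈ T := CfsgLib.FusionPIndex.hyperfocal_mono hHF (hmem z)
    have hat : (((a : MulAut P) t : P) : Ω) ∈ T₁ := by
      have := T₁.mul_mem ht₁ (hH (hmem t))
      rwa [mul_inv_cancel_left] at this
    have h := hD P _ haF t htT
    rw [(hπ ⟨t, _⟩).2 ht₁] at h
    have e : π ⟨((P.subtype.comp (a : MulAut P).toMonoidHom) t), apply_mem haF t⟩ = 1 :=
      (hπ _).2 hat
    rw [e, one_pow, one_mul, one_mul] at h
    exact Subtype.ext h.symm
  -- so it kills `T`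
  have hfr : frattini S ≤ D.ker := by
    refine CfsgLib.Solvable.frattini_le_of_elementary (p := p) ?_ fun s => ?_
    · rw [_root_.commutator_def, Subgroup.commutator_le]
      intro a _ b _
      rw [MonoidHom.mem_ker, map_commutatorElement, commutatorElement_eq_one_iff_mul_comm]
      exact Subtype.ext ((Subgroup.mem_center_iff.1 (D b).2) _)
    · rw [MonoidHom.mem_ker, map_pow, hDp]
  have hDT : ∀ s : S, (s : Ω) ∈ T → D s = 1 := fun s hs => by
    obtain ⟨w, hw, hws⟩ := sup_le (Subgroup.map_mono hfr) hDH (hle hs)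
    exact (Subtype.ext hws : w = s) ▸ hw
  have hfix : ∀ (P : Subgroup Ω) (φ : P →* Ω) (hφ : φ ∈ F.Hom P) (x : P), (x : Ω) ∈ T →
      π ⟨φ x, apply_mem hφ x⟩ = π ⟨x, le_left hφ x.2⟩ := by
    intro P φ hφ x hx
    have hy : φ x ∈ T := FusionFactor.apply_mem_of_stronglyClosed hTc hφ hx
    have h := hD P φ hφ x hx
    rw [hDT ⟨x, _⟩ hx, hDT ⟨φ x, _⟩ hy, Subgroup.coe_one, mul_one, mul_one] at h
    exact eq_of_pow_eq hk (Subgroup.mem_center_iff.1 (hc ⟨x, le_left hφ x.2⟩ hx) _)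
      (hp _ hy) (hp _ hx) h
  -- hence every automorphism of order prime to `p` is trivial modulo `T₁`
  refine (Subgroup.closure_le _).2 ?_
  rintro _ ⟨P, α, y, hP, hα, rfl⟩
  let g : P →* S ⧸ T₁.subgroupOf S := π.comp (Subgroup.inclusion hP)
  have h := hom_apply_eq_of_pResidual g (fun a ha => ?_) hα y
  · have h2 : π (⟨y, hP y.2⟩⁻¹ * ⟨((α : MulAut P) y : P), hP (Subtype.prop _)⟩) = 1 := by
      rw [map_mul, map_inv, inv_mul_eq_one]
      exact h.symm
    exact (hπ _).1 h2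
  · have haF := (mem_autGroup_iff hP).1 a.2
    have hmem : ∀ z : P, ((z⁻¹ * (a : MulAut P) z : P) : Ω) ∈ T :=
      fun z => inv_mul_apply_mem_hyperfocal hP ⟨a, Subgroup.subset_closure ha, rfl⟩ z
    exact hom_apply_eq_of_coprime (p := p) g a (Subgroup.orderOf_coe a ▸ ha)
      (fun z => hfix P _ haF _ (hmem z)) (fun z => hp _ (hmem z))

/-- **Tate's theorem**: the hyperfocal subgroup is determined by the elementary focal quotient. -/
theorem hyperfocal_eq_of_le [Finite S] [Fact p.Prime] (hS : IsPGroup p S) (hF : F.IsSaturated p)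
    {H : FusionSystem S} (hHF : H.IsSubsystemOf F)
    (hle : F.hyperfocalSubgroup p ≤ (frattini S).map S.subtype ⊔ H.hyperfocalSubgroup p) :
    F.hyperfocalSubgroup p = H.hyperfocalSubgroup p := by
  classical
  set T := F.hyperfocalSubgroup p with hT
  set T₀ := H.hyperfocalSubgroup p with hT₀
  have h0 : T₀ ≤ T := CfsgLib.FusionPIndex.hyperfocal_mono hHF
  by_contra hne
  have hlt : T₀ < T := lt_of_le_of_ne h0 fun e => hne e.symm
  have hTS : T ≤ S := hyperfocal_le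
  have hTn : ∀ {s g : Ω}, s ∈ S → g ∈ T → s * g * s⁻¹ ∈ T := fun hs hg =>
    conj_mem_hyperfocal hs hg
  have hT₀n : S ≤ Subgroup.normalizer (T₀ : Set Ω) := fun s hs => by
    haveI := finite_of_le (hT₀ ▸ hyperfocal_le : T₀ ≤ S)
    exact Subgroup.mem_normalizer_fintype fun g hg => conj_mem_hyperfocal hs hg
  haveI := finite_of_le hTS
  have hfin : {M : Subgroup Ω | T₀ ≤ M ∧ M < T ∧ S ≤ Subgroup.normalizer (M : Set Ω)}.Finite :=
    (FusionFactor.finite_setOf_le S).subset fun M hM => hM.2.1.le.trans hTS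
  obtain ⟨M, ⟨hT₀M, hMT, hMn⟩, hmax⟩ := hfin.exists_maximal ⟨T₀, le_rfl, hlt, hT₀n⟩
  have hMS := hMT.le.trans hTS
  haveI : (M.subgroupOf S).Normal := (Subgroup.normal_subgroupOf_iff_le_normalizer hMS).2 hMn
  haveI : (T.subgroupOf S).Normal := ⟨fun n hn g => hTn g.2 hn⟩
  let π := QuotientGroup.mk' (M.subgroupOf S)
  haveI : ((T.subgroupOf S).map π).Normal :=
    Subgroup.Normal.map inferInstance π (QuotientGroup.mk'_surjective _)
  have hbar : (T.subgroupOf S).map π ≠ ⊥ := fun h => hMT.not_ge fun t ht => by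
    have h1 : π ⟨t, hTS ht⟩ ∈ (T.subgroupOf S).map π := ⟨_, ht, rfl⟩
    rw [h, Subgroup.mem_bot] at h1
    exact Subgroup.mem_subgroupOf.1 ((QuotientGroup.eq_one_iff _).1 h1)
  obtain ⟨z, hzT, hzc, hzp⟩ :=
    CfsgLib.OddOrder.BG4.exists_central_orderOf_prime (hS.to_quotient (M.subgroupOf S)) hbar
  let M' : Subgroup Ω := ((Subgroup.zpowers z).comap π).map S.subtype
  have hM'n : S ≤ Subgroup.normalizer (M' : Set Ω) := fun s hs => by
    haveI := finite_of_le (Subgroup.map_subtype_le _ : M' ≤ S)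
    refine Subgroup.mem_normalizer_fintype ?_
    rintro _ ⟨w, hw, rfl⟩
    refine ⟨⟨s, hs⟩ * w * ⟨s, hs⟩⁻¹, ?_, rfl⟩
    obtain ⟨n, hn⟩ := Subgroup.mem_zpowers_iff.1 hw
    refine Subgroup.mem_zpowers_iff.2 ⟨n, ?_⟩
    rw [map_mul, map_mul, map_inv, ← hn]
    have := Subgroup.mem_center_iff.1 (zpow_mem hzc n) (π ⟨s, hs⟩)
    rw [this, mul_inv_cancel_right]
  have hM'T : M' ≤ T := by
    rintro _ ⟨w, hw, rfl⟩
    obtain ⟨n, hn⟩ := Subgroup.mem_zpowers_iff.1 hw
    obtain ⟨v, hv, hvw⟩ := (hn ▸ zpow_mem hzT n : π w ∈ (T.subgroupOf S).map π)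
    have h1 : v⁻¹ * w ∈ M.subgroupOf S := QuotientGroup.eq.1 hvw
    have h2 := T.mul_mem hv (hMT.le h1)
    simpa using h2
  have hMM' : M < M' := by
    refine lt_of_le_of_ne (fun m hm => ⟨⟨m, hMS hm⟩, ?_, rfl⟩) fun e => ?_
    · show π _ ∈ Subgroup.zpowers z
      rw [show π ⟨m, hMS hm⟩ = 1 from (QuotientGroup.eq_one_iff _).2 hm]
      exact one_mem _
    · obtain ⟨w, hw⟩ := QuotientGroup.mk'_surjective (M.subgroupOf S) z
      have h1 : (w : Ω) ∈ M' := ⟨w, hw ▸ Subgroup.mem_zpowers z, rfl⟩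
      rw [← e] at h1
      have h2 : z = 1 := hw ▸ (QuotientGroup.eq_one_iff w).2 h1
      rw [h2, orderOf_one] at hzp
      exact (Fact.out : p.Prime).ne_one hzp.symm
  have hTM' : T ≤ M' := by
    by_contra h
    exact hMM'.not_ge (hmax ⟨hT₀M.trans hMM'.le, lt_of_le_not_ge hM'T h, hM'n⟩ hMM'.le)
  refine hMT.not_ge (hyperfocal_le_step hS hF hHF hMS hMn ?_ ?_ hT₀M hle)
  · intro t ht s hs
    obtain ⟨w, hw, rfl⟩ := hTM' ht
    obtain ⟨n, hn⟩ := Subgroup.mem_zpowers_iff.1 hw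
    refine Subgroup.mem_subgroupOf.1 (show ⁅w, (⟨s, hs⟩ : S)⁆ ∈ M.subgroupOf S from
      (QuotientGroup.eq_one_iff _).1 (?_ : π ⁅w, (⟨s, hs⟩ : S)⁆ = 1))
    rw [map_commutatorElement, commutatorElement_eq_one_iff_mul_comm, ← hn]
    exact (Subgroup.mem_center_iff.1 (zpow_mem hzc n) _).symm
  · intro t ht
    obtain ⟨w, hw, rfl⟩ := hTM' ht
    obtain ⟨n, hn⟩ := Subgroup.mem_zpowers_iff.1 hw
    refine Subgroup.mem_subgroupOf.1 (show w ^ p ∈ M.subgroupOf S from
      (QuotientGroup.eq_one_iff _).1 (?_ : π (w ^ p) = 1))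
    rw [map_pow, ← hn, ← zpow_natCast, ← zpow_mul, mul_comm, zpow_mul, zpow_natCast, ← hzp,
      pow_orderOf_eq_one, one_zpow]

end CfsgLib.FusionTate
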