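import Cfsg.Agent.FusionTate.TransferData
import Cfsg.Agent.Fusion.Hyperfocal
import Cfsg.Agent.FusionFactor.Lift

/-!
Thompson transfer for saturated fusion systems on `2`-groups.
-/

set_option autoImplicit false

universe u

namespace CfsgLib.FusionTate

open Cfsg Cfsg.FusionSystem CfsgLib.Fusion
open scoped commutatorElement

variable {Ω : Type u} [Group Ω] {S : Subgroup Ω} {F : FusionSystem S}

theorem eq_one_or_of_mem_zpowers {x y : Ω} (hx : orderOf x = 2) (hy : y ∈ Subgroup.zpowers x) :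
    y = 1 ∨ y = x := by
  obtain ⟨n, rfl⟩ := Subgroup.mem_zpowers_iff.1 hy
  rw [← zpow_mod_orderOf, hx]
  rcases Int.emod_two_eq_zero_or_one n with h | h
  · left
    simp only [Nat.cast_ofNat, h, zpow_zero]
  · right
    simp only [Nat.cast_ofNat, h, zpow_one]

/-- For an involution the normalizer of the generated subgroup centralises it. -/
theorem commute_of_mem_normalizer {x g : Ω} (hx : orderOf x = 2)
    (hg : g ∈ Subgroup.normalizer (Subgroup.zpowers x : Set Ω)) : Commute g x := by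
  have h1 := (Subgroup.mem_normalizer_iff.1 hg x).1 (Subgroup.mem_zpowers x)
  rcases eq_one_or_of_mem_zpowers hx h1 with h | h
  · rw [mul_inv_eq_one, mul_eq_left] at h
    rw [h, orderOf_one] at hx
    omega
  · exact mul_inv_eq_iff_eq_mul.1 h

theorem mem_normalizer_of_commute {x g : Ω} (h : Commute g x) :
    g ∈ Subgroup.normalizer (Subgroup.zpowers x : Set Ω) := by
  have h' : ∀ z ∈ Subgroup.zpowers x, g * z = z * g := fun z hz => by
    obtain ⟨n, rfl⟩ := Subgroup.mem_zpowers_iff.1 hz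
    exact (h.zpow_right n).eq
  refine Subgroup.mem_normalizer_iff.2 fun z => ⟨fun hz => ?_, fun hz => ?_⟩
  · rw [h' z hz, mul_inv_cancel_right]
    exact hz
  · have h1 := h' _ hz
    rw [mul_inv_eq_iff_eq_mul.1 (mul_inv_cancel_right (g * z * g⁻¹) g)] at h1
    have h2 : z = g⁻¹ * (g * z * g⁻¹) * g := by group
    have h3 : g⁻¹ * (g * z * g⁻¹) * g = g * z * g⁻¹ := by
      rw [mul_assoc, ← h' _ hz, inv_mul_cancel_left]
    rw [h2, h3]
    exact hz

/-- The transfer of a fully normalised involution with outside conjugates is not trivial. -/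
theorem transfer_ne_one [Finite S] (hS : IsPGroup 2 S) {A : Type*} [CommGroup A] (lam : S →* A)
    (d : TransferData F 2 lam) (i : S) (hi : orderOf i = 2)
    (hn : F.IsFullyNormalized (Subgroup.zpowers (i : Ω))) {a : A} (ha : a ≠ 1) (ha2 : a ^ 2 = 1)
    (h : ∀ j : S, F.IsConjElt i j → F.IsFullyNormalized (Subgroup.zpowers (j : Ω)) → lam j = a)
    (hlam : ∀ s, lam s = 1 ∨ lam s = a) :
    ∏ w, d.f i w ≠ 1 := by
  classical
  have hiΩ : orderOf (i : Ω) = 2 := (Subgroup.orderOf_coe i).trans hi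
  have hsq : i * i = 1 := by rw [← pow_two, ← hi, pow_orderOf_eq_one]
  have hone : ∀ w, d.f 1 w = 1 := fun w => by
    have h1 := d.cocycle 1 1 w
    rw [one_smul, mul_one, right_eq_mul] at h1
    exact h1
  have hpair : ∀ w, d.f i (i • w) * d.f i w = 1 := fun w => by
    rw [← d.cocycle, hsq, hone]
  have hval : ∀ w, i • w = w → d.f i w = 1 ∨ d.f i w = a := fun w hw => by
    obtain ⟨R, θ, hθ, hv⟩ := d.local_eq w
    obtain ⟨hR, he⟩ := hv i hw
    rw [he]
    exact hlam _
  -- only the fixed points contribute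
  have hsplit : ∏ w, d.f i w = ∏ w ∈ Finset.univ.filter (fun w : d.Q => i • w = w), d.f i w := by
    rw [← Finset.prod_filter_mul_prod_filter_not Finset.univ (fun w : d.Q => i • w = w)]
    refine (congrArg (_ * ·) (Finset.prod_involution (fun w _ => i • w) ?_ ?_ ?_ ?_)).trans (mul_one _)
    · intro w _
      rw [mul_comm]
      exact hpair w
    · intro w hw _
      exact (Finset.mem_filter.1 hw).2
    · intro w hw
      refine Finset.mem_filter.2 ⟨Finset.mem_univ _, fun e => (Finset.mem_filter.1 hw).2 ?_⟩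
      exact MulAction.injective i e
    · intro w _
      rw [← mul_smul, hsq, one_smul]
  rw [hsplit]
  set C : Subgroup S := Subgroup.centralizer {i} with hC
  have hCc : ∀ c : C, (c : S) * i = i * c := fun c =>
    Subgroup.mem_centralizer_singleton_iff.1 c.2
  have hinv : ∀ (c : C) (w : d.Q), i • w = w →
      i • ((c : S) • w) = (c : S) • w ∧ d.f i ((c : S) • w) = d.f i w := by
    intro c w hw
    have h1 : i • ((c : S) • w) = (c : S) • w := by rw [← mul_smul, ← hCc, mul_smul, hw]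
    refine ⟨h1, ?_⟩
    have h2 := d.cocycle i c w
    rw [← hCc, d.cocycle, hw] at h2
    exact mul_right_cancel (h2.symm.trans (mul_comm _ _))
  let Y : SubMulAction C d.Q :=
    { carrier := {w | i • w = w ∧ d.f i w ≠ 1}
      smul_mem' := fun c w hw => ⟨(hinv c w hw.1).1, by
        show d.f i ((c : S) • w) ≠ 1
        rw [(hinv c w hw.1).2]; exact hw.2⟩ }
  have hprod : ∏ w ∈ Finset.univ.filter (fun w : d.Q => i • w = w), d.f i w = a ^ Nat.card Y := by
    rw [← Finset.prod_filter_mul_prod_filter_not _ (fun w : d.Q => d.f i w ≠ 1)]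
    rw [Finset.prod_eq_one (s := (Finset.univ.filter _).filter fun w => ¬ d.f i w ≠ 1)
      (fun w hw => not_not.1 (Finset.mem_filter.1 hw).2), mul_one]
    rw [Finset.prod_eq_pow_card (b := a) fun w hw =>
      (hval w (Finset.mem_filter.1 (Finset.mem_filter.1 hw).1).2).resolve_left
        (Finset.mem_filter.1 hw).2]
    congr 1
    rw [Finset.filter_filter, ← Fintype.card_subtype, ← Nat.card_eq_fintype_card]
    rfl
  rw [hprod]
  -- the points fixed by the centralizer
  have hfixC : ∀ w : d.Q, (∀ c : C, (c : S) • w = w) → i • w = w ∧ d.f i w = a := by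
    intro w hw
    have hwi : i • w = w := hw ⟨i, Subgroup.mem_centralizer_singleton_iff.2 rfl⟩
    obtain ⟨R, θ, hθ, hv⟩ := d.local_eq w
    obtain ⟨hiR, he⟩ := hv i hwi
    refine ⟨hwi, ?_⟩
    rw [he]
    set j : S := ⟨θ ⟨i, hiR⟩, apply_mem hθ _⟩ with hj
    have hle : Subgroup.zpowers (i : Ω) ≤ R := Subgroup.zpowers_le.2 hiR
    have hconj : F.IsConjElt i j := ⟨_, Fusion.restrict_mem hθ hle, rfl⟩
    have hjo : orderOf (j : Ω) = 2 := by
      show orderOf (θ ⟨i, hiR⟩) = 2
      rw [orderOf_injective θ (F.injective_of_mem hθ), Subgroup.orderOf_mk, hiΩ]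
    refine h j hconj ⟨Subgroup.zpowers_le.2 j.2, fun Q hQ => ?_⟩
    have hconj' : F.IsConj (Subgroup.zpowers (i : Ω)) (Subgroup.zpowers (j : Ω)) :=
      ⟨_, Fusion.restrict_mem hθ hle, by
        ext z
        constructor
        · rintro ⟨⟨y, hy⟩, rfl⟩
          obtain ⟨n, rfl⟩ := Subgroup.mem_zpowers_iff.1 hy
          refine Subgroup.mem_zpowers_iff.2 ⟨n, ?_⟩
          show θ ⟨i, hiR⟩ ^ n = θ ⟨(i : Ω) ^ n, _⟩
          rw [← map_zpow]
          rfl
        · intro hz
          obtain ⟨n, rfl⟩ := Subgroup.mem_zpowers_iff.1 hz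
          refine ⟨⟨(i : Ω) ^ n, Subgroup.zpow_mem_zpowers _ _⟩, ?_⟩
          show θ ⟨(i : Ω) ^ n, _⟩ = θ ⟨i, hiR⟩ ^ n
          rw [← map_zpow]
          rfl⟩
    refine (hn.2 Q (isConj_trans hconj' hQ)).trans ?_
    haveI := finite_of_le (normalizerIn_le S (Subgroup.zpowers (j : Ω)))
    have hmemC : ∀ g : normalizerIn S (Subgroup.zpowers (i : Ω)), (⟨g, g.2.1⟩ : S) ∈ C := fun g =>
      Subgroup.mem_centralizer_singleton_iff.2
        (Subtype.ext (commute_of_mem_normalizer hiΩ g.2.2).eq)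
    have hgR : ∀ g : normalizerIn S (Subgroup.zpowers (i : Ω)), (g : Ω) ∈ R := fun g =>
      (hv _ (hw ⟨_, hmemC g⟩)).1
    refine Nat.card_le_card_of_injective (fun g => ⟨θ ⟨g, hgR g⟩, apply_mem hθ _,
      mem_normalizer_of_commute ?_⟩) fun g g' e => ?_
    · show θ _ * θ _ = θ _ * θ _
      rw [← map_mul, ← map_mul]
      exact congrArg θ (Subtype.ext (commute_of_mem_normalizer hiΩ g.2.2).eq)
    · exact Subtype.ext (congrArg Subtype.val (F.injective_of_mem hθ (congrArg Subtype.val e)) :)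
  have hcardY : Nat.card Y % 2 = 1 := by
    have hCp : IsPGroup 2 C := hS.to_subgroup C
    have h1 := hCp.card_modEq_card_fixedPoints Y
    have h2 := hCp.card_modEq_card_fixedPoints d.Q
    have h3 : Nat.card (MulAction.fixedPoints C Y) = Nat.card (MulAction.fixedPoints C d.Q) := by
      refine Nat.card_congr (Equiv.ofBijective (fun y => ⟨(y.1 : d.Q), fun c =>
        congrArg Subtype.val (y.2 c)⟩) ⟨fun y y' e => Subtype.ext (Subtype.ext (congrArg Subtype.val e :)),
          fun w => ?_⟩)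
      obtain ⟨hwi, hwa⟩ := hfixC w.1 fun c => w.2 c
      exact ⟨⟨⟨w.1, hwi, by rw [hwa]; exact ha⟩, fun c => Subtype.ext (w.2 c)⟩, rfl⟩
    rw [h3] at h1
    have h4 : Nat.card Y ≡ Nat.card d.Q [MOD 2] := h1.trans h2.symm
    have h5 := d.not_dvd
    unfold Nat.ModEq at h4
    omega
  intro e
  have h6 := orderOf_eq_prime ha2 ha
  have h7 := orderOf_dvd_of_pow_eq_one e
  rw [h6] at h7
  omega

/-- **Thompson transfer** for fusion systems. -/
theorem not_mem_hyperfocal_of_transfer [Finite S] (hS : IsPGroup 2 S) (hF : F.IsSaturated 2)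
    {T : Subgroup Ω} (hT : T.relIndex S = 2) {i : Ω} (hi : i ∈ S) (hi2 : orderOf i = 2)
    (h : ∀ j : Ω, F.IsConjElt i j → F.IsFullyNormalized (Subgroup.zpowers j) → j ∉ T) :
    i ∉ F.hyperfocalSubgroup 2 := by
  classical
  haveI : Fact (Nat.Prime 2) := ⟨Nat.prime_two⟩
  intro hih
  obtain ⟨Q, ⟨φ, hφ, hφr⟩, hQn⟩ :=
    exists_fullyNormalized (F := F) (Subgroup.zpowers_le.2 hi : Subgroup.zpowers i ≤ S)
  set j : S := ⟨φ ⟨i, Subgroup.mem_zpowers i⟩, apply_mem hφ _⟩ with hj
  have hQj : Q = Subgroup.zpowers (j : Ω) := by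
    rw [← hφr]
    ext z
    constructor
    · rintro ⟨⟨y, hy⟩, rfl⟩
      obtain ⟨n, rfl⟩ := Subgroup.mem_zpowers_iff.1 hy
      refine Subgroup.mem_zpowers_iff.2 ⟨n, ?_⟩
      show φ ⟨i, _⟩ ^ n = φ ⟨i ^ n, _⟩
      rw [← map_zpow]
      rfl
    · intro hz
      obtain ⟨n, rfl⟩ := Subgroup.mem_zpowers_iff.1 hz
      refine ⟨⟨i, Subgroup.mem_zpowers i⟩ ^ n, ?_⟩
      exact map_zpow φ _ n
  rw [hQj] at hQn
  have hjo : orderOf j = 2 := by
    rw [← Subgroup.orderOf_coe]
    show orderOf (φ _) = 2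
    rw [orderOf_injective φ (F.injective_of_mem hφ), Subgroup.orderOf_mk, hi2]
  have hjf : (j : Ω) ∈ F.focalSubgroup := hyperfocal_le_focal (p := 2)
    (FusionFactor.apply_mem_of_stronglyClosed (stronglyClosed_hyperfocal hS hF) hφ hih)
  set T' := T.subgroupOf S
  have hidx : T'.index = 2 := hT
  haveI : T'.Normal := Subgroup.normal_of_index_eq_two hidx
  have hcard : Nat.card (S ⧸ T') = 2 := hidx
  haveI : IsCyclic (S ⧸ T') := isCyclic_of_prime_card hcard
  letI : CommGroup (S ⧸ T') := IsCyclic.commGroup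
  let lam : S →* S ⧸ T' := QuotientGroup.mk' T'
  obtain ⟨a, ha⟩ : ∃ a : S ⧸ T', a ≠ 1 := by
    by_contra hcon
    push Not at hcon
    haveI : Subsingleton (S ⧸ T') := ⟨fun x y => (hcon x).trans (hcon y).symm⟩
    rw [Nat.card_unique] at hcard
    omega
  have ha2 : a ^ 2 = 1 := by
    have h1 := pow_card_eq_one' (x := a)
    rwa [hcard] at h1
  have htwo : ∀ b : S ⧸ T', b = 1 ∨ b = a := by
    intro b
    by_contra hcon
    push Not at hcon
    haveI := Fintype.ofFinite (S ⧸ T')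
    have h3 : ({1, a, b} : Finset (S ⧸ T')).card = 3 := Finset.card_eq_three.2
      ⟨1, a, b, ha.symm, hcon.1.symm, hcon.2.symm, rfl⟩
    have h4 := Finset.card_le_univ ({1, a, b} : Finset (S ⧸ T'))
    rw [h3, ← Nat.card_eq_fintype_card, hcard] at h4
    omega
  obtain ⟨d⟩ := exists_transferData hS hF lam
  refine transfer_ne_one hS lam d j hjo hQn ha ha2 (fun j' hj' hn' => (htwo _).resolve_left fun h1 =>
    ?_) (fun s => htwo _) ?_
  · obtain ⟨ψ, hψ, hψv⟩ := hj'
    refine h j' ?_ hn' (Subgroup.mem_subgroupOf.1 ((QuotientGroup.eq_one_iff j').1 h1))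
    have hin : ∀ z, φ z ∈ Subgroup.zpowers (j : Ω) := fun z => hQj ▸ hφr ▸ ⟨z, rfl⟩
    exact ⟨_, F.comp_mem hφ hψ hin, hψv⟩
  · let t : S →* S ⧸ T' := MonoidHom.mk' (fun v => ∏ w, d.f v w) fun x y => by
      simp only [d.cocycle, Finset.prod_mul_distrib]
      rw [Fintype.prod_bijective (fun w => y • w) (MulAction.bijective y) (fun w => d.f x (y • w))
        (d.f x) fun w => rfl]
    have hker : F.focalSubgroup ≤ t.ker.map S.subtype := by
      refine (Subgroup.closure_le _).2 ?_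
      rintro _ ⟨P, θ, y, hθ, rfl⟩
      refine ⟨⟨y, le_left hθ y.2⟩⁻¹ * ⟨θ y, apply_mem hθ y⟩, ?_, rfl⟩
      rw [SetLike.mem_coe, MonoidHom.mem_ker, map_mul, map_inv, inv_mul_eq_one]
      exact (d.invariant P θ hθ y).symm
    obtain ⟨j', hj'', he⟩ := hker hjf
    exact (Subtype.ext he : j' = j) ▸ hj''

end CfsgLib.FusionTate
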