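import Cfsg.Agent.FusionTate.Consequences
import Cfsg.Agent.FusionTate.TransferData
import Cfsg.Agent.LocalStructure.Yoshida
import Cfsg.Agent.WeakClosed.FusionTools

/-!
Yoshida's theorem for fusion systems.
-/

set_option autoImplicit false

universe u

namespace CfsgLib.FusionTate

open Cfsg Cfsg.FusionSystem CfsgLib.Fusion CfsgLib.LocalStructure
open scoped commutatorElement

variable {Ω : Type u} [Group Ω] {S : Subgroup Ω} {F : FusionSystem S} {p : ℕ}

/-- The transfer along a transversal of representatives. -/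
theorem transfer_eq_prod_out {G A : Type*} [Group G] [CommGroup A] {D : Subgroup G}
    [D.FiniteIndex] [hfin : Fintype (G ⧸ D)] (μ : D →* A) (g : G) :
    MonoidHom.transfer μ g = ∏ y : G ⧸ D, μ ⟨(g • y).out⁻¹ * (g * y.out), QuotientGroup.eq.1 (by
      rw [QuotientGroup.out_eq', ← smul_eq_mul, ← MulAction.Quotient.smul_coe,
        QuotientGroup.out_eq'])⟩ := by
  classical
  obtain rfl := Subsingleton.elim hfin (Subgroup.fintypeQuotientOfFiniteIndex (H := D))
  letI := Subgroup.fintypeQuotientOfFiniteIndex (H := D)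
  let T : D.LeftTransversal := ⟨Set.range Quotient.out,
    Subgroup.isComplement_range_left Quotient.out_eq'⟩
  rw [MonoidHom.transfer_def μ T g]
  refine Eq.symm (Fintype.prod_equiv (MulAction.toPerm g) _ _ fun y => congrArg μ (Subtype.ext ?_))
  show (g • y).out⁻¹ * (g * y.out) = _
  have h1 : (T.2.leftQuotientEquiv (g • y) : G) = (g • y).out :=
    Subgroup.IsComplement.leftQuotientEquiv_apply Quotient.out_eq' _
  have h2 : (T.2.leftQuotientEquiv y : G) = y.out :=
    Subgroup.IsComplement.leftQuotientEquiv_apply Quotient.out_eq' _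
  simp only [MulAction.toPerm_apply, Subgroup.smul_apply_eq_smul_apply_inv_smul, inv_smul_smul, h1,
    h2, smul_eq_mul]

variable [Finite S] [Fact p.Prime]

/-- A homomorphism to `Z/p` invariant under `Aut_F(S)` and not killing the focal subgroup. -/
theorem exists_hom_of_failure (hS : IsPGroup p S) (hF : F.IsSaturated p)
    {N : FusionSystem (normalizerIn S S)} (hN : F.IsNormalizerSystem S N)
    (hne : N.focalSubgroup ≠ F.focalSubgroup) :
    ∃ lam : S →* Multiplicative (ZMod p),
      (∀ α ∈ F.autGroup S, ∀ x : S, lam (α x) = lam x) ∧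
      ∃ x : S, (x : Ω) ∈ F.focalSubgroup ∧ lam x ≠ 1 := by
  have hSS : normalizerIn S S = S := WeakClosed.normalizerIn_eq_self Subgroup.le_normalizer
  obtain ⟨E, hE, hEN⟩ := WeakClosed.exists_copy hSS
    (isSaturated_normalizerSystem hS hF (WeakClosed.isFullyNormalized_of_le F le_rfl
      Subgroup.le_normalizer) hN)
  have hfoc : E.focalSubgroup = N.focalSubgroup := by
    unfold FusionSystem.focalSubgroup
    simp only [hEN]
  have hEF : E.IsSubsystemOf F := fun P φ hφ => by
    rw [hEN, hN] at hφ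
    exact hφ.1
  have hEn : (E.focalSubgroup.subgroupOf S).Normal := ⟨fun n hn g => by
    have h1 := commutator_le_focal (F := E) (Subgroup.commutator_mem_commutator g.2 n.2)
    have h2 := E.focalSubgroup.mul_mem h1 hn
    simpa [commutatorElement_def, Subgroup.mem_subgroupOf] using h2⟩
  set K := frattini S ⊔ E.focalSubgroup.subgroupOf S with hK
  have hEle : E.focalSubgroup ≤ S := (Subgroup.closure_le _).2 fun _ ⟨P, φ, x, hφ, hy⟩ =>
    hy ▸ S.mul_mem (S.inv_mem (le_left hφ x.2)) (apply_mem hφ x)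
  obtain ⟨x, hxf, hxK⟩ : ∃ x : S, (x : Ω) ∈ F.focalSubgroup ∧ x ∉ K := by
    by_contra hcon
    push Not at hcon
    refine hne ?_
    rw [← hfoc]
    refine (focal_eq_of_hyperfocal hS hF hE (hyperfocal_eq_of_frattini_focal hS hF hE hEF ?_)).symm
    refine le_antisymm (sup_le le_sup_left fun y hy => ?_) (sup_le_sup_left ?_ _)
    · have hyS : y ∈ S := by
        rw [focalSubgroup_eq hS hF] at hy
        exact sup_le hyperfocal_le (Subgroup.commutator_le_self S) hy
      have h := Subgroup.mem_map_of_mem S.subtype (hcon ⟨y, hyS⟩ hy)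
      rwa [hK, Subgroup.map_sup, Subgroup.map_subgroupOf_eq_of_le hEle] at h
    · exact (Subgroup.closure_le _).2 fun _ ⟨P, φ, z, hφ, hz⟩ =>
        Subgroup.subset_closure ⟨P, φ, z, hEF P hφ, hz⟩
  haveI : K.Normal := Subgroup.sup_normal _ _
  have hres : CfsgLib.Transfer.elemResidual p (S ⧸ K) ≤ ⊥ := by
    refine sup_le ?_ ((Subgroup.closure_le _).2 ?_)
    · rw [_root_.commutator_def, Subgroup.commutator_le]
      intro a _ b _
      obtain ⟨a, rfl⟩ := QuotientGroup.mk'_surjective K a
      obtain ⟨b, rfl⟩ := QuotientGroup.mk'_surjective K b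
      rw [Subgroup.mem_bot, ← map_commutatorElement]
      exact (QuotientGroup.eq_one_iff _).2 (Subgroup.mem_sup_left (CfsgLib.Solvable.commutator_le_frattini
        hS (Subgroup.commutator_mem_commutator trivial trivial)))
    · rintro _ ⟨a, rfl⟩
      obtain ⟨a, rfl⟩ := QuotientGroup.mk'_surjective K a
      show (QuotientGroup.mk' K a) ^ p ∈ (⊥ : Subgroup (S ⧸ K))
      rw [Subgroup.mem_bot, ← map_pow]
      exact (QuotientGroup.eq_one_iff _).2 (Subgroup.mem_sup_left
        (CfsgLib.Solvable.pow_mem_frattini hS a))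
  obtain ⟨f, hf⟩ := Yoshida.exists_hom_ne_one (p := p) (x := QuotientGroup.mk' K x)
    fun h => hxK ((QuotientGroup.eq_one_iff x).1 (Subgroup.mem_bot.1 (hres h)))
  refine ⟨f.comp (QuotientGroup.mk' K), fun α hα y => ?_, x, hxf, hf⟩
  have h1 : y⁻¹ * α y ∈ K := Subgroup.mem_sup_right (Subgroup.mem_subgroupOf.2 (by
    rw [hfoc]
    refine Subgroup.subset_closure ⟨S, S.subtype.comp α.toMonoidHom, y, ?_, rfl⟩
    rw [hN]
    exact WeakClosed.aut_mem_normalizerHom le_rfl hα))
  show f (QuotientGroup.mk' K (α y)) = f (QuotientGroup.mk' K y)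
  exact congrArg f (QuotientGroup.eq.2 h1).symm

/-- **Yoshida's theorem** for fusion systems. -/
theorem yoshida (hS : IsPGroup p S) (hF : F.IsSaturated p)
    {N : FusionSystem (normalizerIn S S)} (hN : F.IsNormalizerSystem S N)
    (hne : N.focalSubgroup ≠ F.focalSubgroup) :
    ∃ (W : Sylow p (Equiv.Perm (Fin (p ^ 2))))
      (f : S →* ↥(W : Subgroup (Equiv.Perm (Fin (p ^ 2))))), Function.Surjective f := by
  classical
  obtain ⟨lam, hinv, x₀, hx₀, hx₀'⟩ := exists_hom_of_failure hS hF hN hne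
  obtain ⟨u, ⟨huf, hu⟩, humin⟩ := Set.exists_min_image
    {x : S | (x : Ω) ∈ F.focalSubgroup ∧ lam x ≠ 1} orderOf (Set.toFinite _) ⟨x₀, hx₀, hx₀'⟩
  -- images of proper powers are killed
  have hkill : ∀ (R : Subgroup Ω) (θ : R →* Ω) (hθ : θ ∈ F.Hom R) (y : S) (hy : (y : Ω) ∈ R),
      (y : Ω) ∈ F.focalSubgroup → orderOf y < orderOf u → lam ⟨θ ⟨y, hy⟩, apply_mem hθ _⟩ = 1 := by
    intro R θ hθ y hy hyf hlt
    by_contra hne1
    refine absurd (humin ⟨θ ⟨y, hy⟩, apply_mem hθ _⟩ ⟨?_, hne1⟩) (not_le.2 ?_)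
    · have h1 : (y : Ω)⁻¹ * θ ⟨y, hy⟩ ∈ F.focalSubgroup :=
        Subgroup.subset_closure ⟨R, θ, ⟨y, hy⟩, hθ, rfl⟩
      have h2 := F.focalSubgroup.mul_mem hyf h1
      rwa [mul_inv_cancel_left] at h2
    · refine lt_of_eq_of_lt ?_ hlt
      rw [← Subgroup.orderOf_coe, ← Subgroup.orderOf_coe y]
      show orderOf (θ ⟨y, hy⟩) = _
      rw [orderOf_injective θ (F.injective_of_mem hθ), Subgroup.orderOf_mk]
  obtain ⟨d⟩ := exists_transferData hS hF lam
  -- the transfer of `u` is trivial
  have hfix_eq : ∀ (w : d.Q), (∀ v : S, v • w = w) → d.f u w = lam u := by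
    intro w hw
    obtain ⟨R, θ, hθ, hv⟩ := d.local_eq w
    have hle : S ≤ R := fun z hz => (hv ⟨z, hz⟩ (hw _)).1
    have hθ' := Fusion.restrict_mem hθ hle
    obtain ⟨α, hα, hαv⟩ := exists_iso hθ' (eq_S_of_isConj ⟨_, hθ', rfl⟩)
    obtain ⟨h, he⟩ := hv u (hw u)
    rw [he, ← hinv α (IsIso.mem_autGroup hα) u]
    exact congrArg lam (Subtype.ext (hαv u).symm)
  have hone : ∏ w, d.f 1 w = 1 := by
    refine Finset.prod_eq_one fun w _ => ?_
    have h := d.cocycle 1 1 w
    rw [one_smul, mul_one, right_eq_mul] at h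
    exact h
  let t : S →* Multiplicative (ZMod p) := MonoidHom.mk' (fun v => ∏ w, d.f v w) fun a b => by
    simp only [d.cocycle, Finset.prod_mul_distrib]
    rw [Fintype.prod_bijective (fun w => b • w) (MulAction.bijective b) (fun w => d.f a (b • w))
      (d.f a) fun w => rfl]
  have htot : ∏ w, d.f u w = 1 := by
    have hker : F.focalSubgroup ≤ t.ker.map S.subtype := by
      refine (Subgroup.closure_le _).2 ?_
      rintro _ ⟨P, φ, y, hφ, rfl⟩
      refine ⟨⟨y, le_left hφ y.2⟩⁻¹ * ⟨φ y, apply_mem hφ y⟩, ?_, rfl⟩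
      rw [SetLike.mem_coe, MonoidHom.mem_ker, map_mul, map_inv, inv_mul_eq_one]
      exact (d.invariant P φ hφ y).symm
    obtain ⟨u', hu', he⟩ := hker huf
    exact (Subtype.ext he : u' = u) ▸ hu'
  -- some nontrivial orbit contributes
  let π : d.Q → MulAction.orbitRel.Quotient S d.Q := Quotient.mk _
  letI : Fintype (MulAction.orbitRel.Quotient S d.Q) := Fintype.ofFinite _
  obtain ⟨w₀, hw₀, hprod⟩ : ∃ w₀ : d.Q, (¬ ∀ v : S, v • w₀ = w₀) ∧
      ∏ x : {x // π x = π w₀}, d.f u x.1 ≠ 1 := by
    by_contra hcon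
    push Not at hcon
    let g : d.Q → Multiplicative (ZMod p) := fun w => if ∀ v : S, v • w = w then lam u else 1
    have hfib : ∀ o, ∏ x : {x // π x = o}, d.f u x.1 = ∏ x : {x // π x = o}, g x.1 := by
      intro o
      induction o using Quotient.inductionOn with
      | _ w₀ =>
        have hmem : ∀ x : {x // π x = π w₀}, ∃ s : S, s • w₀ = x.1 := fun x =>
          MulAction.mem_orbit_iff.1 (MulAction.orbitRel_apply.1 (Quotient.exact x.2))
        by_cases hw : ∀ v : S, v • w₀ = w₀
        · refine Finset.prod_congr rfl fun x _ => ?_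
          obtain ⟨s, hs⟩ := hmem x
          rw [show x.1 = w₀ from hs.symm.trans (hw s), hfix_eq w₀ hw]
          exact (if_pos hw).symm
        · rw [hcon w₀ (not_forall.1 hw)]
          refine (Finset.prod_eq_one fun x _ => if_neg fun hx => hw fun v => ?_).symm
          obtain ⟨s, hs⟩ := hmem x
          have hws : x.1 = w₀ := (hx s⁻¹).symm.trans (by rw [← hs, inv_smul_smul])
          rw [← hws]
          exact hx v
    rw [← Fintype.prod_fiberwise π, Fintype.prod_congr _ _ hfib, Fintype.prod_fiberwise π g] at htot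
    simp only [g, Finset.prod_ite, Finset.prod_const_one, mul_one, Finset.prod_const] at htot
    set n := (Finset.univ.filter fun w : d.Q => ∀ v : S, v • w = w).card with hn
    have hpn : ¬ p ∣ n := by
      have h := hS.card_modEq_card_fixedPoints d.Q
      have hcard : Nat.card (MulAction.fixedPoints S d.Q) = n := by
        rw [hn, ← Fintype.card_subtype, ← Nat.card_eq_fintype_card]
        rfl
      rw [hcard] at h
      exact fun hd => d.not_dvd ((Nat.ModEq.dvd_iff h dvd_rfl).2 hd)
    have hp1 : lam u ^ p = 1 := by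
      apply Multiplicative.toAdd.injective
      simp
    have h1 : orderOf (lam u) = 1 := Nat.eq_one_of_dvd_coprimes
      ((Fact.out : p.Prime).coprime_iff_not_dvd.2 hpn) (orderOf_dvd_of_pow_eq_one hp1)
      (orderOf_dvd_of_pow_eq_one htot)
    exact hu (orderOf_eq_one_iff.1 h1)
  -- the orbit as the cosets of a proper subgroup
  set D : Subgroup S := MulAction.stabilizer S w₀ with hD
  let μ : D →* Multiplicative (ZMod p) := MonoidHom.mk' (fun a => d.f a w₀) fun a b => by
    show d.f ((a : S) * b) w₀ = _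
    rw [d.cocycle, show (b : S) • w₀ = w₀ from b.2]
  obtain ⟨R, θ, hθ, hv⟩ := d.local_eq w₀
  have hkillμ : Yoshida.Kills μ u := by
    intro a k hk hdvd hmem
    obtain ⟨h, he⟩ := hv _ hmem
    show d.f _ w₀ = 1
    rw [he]
    refine hkill R θ hθ _ h ?_ ?_
    · have h1 : ((u ^ k : S) : Ω) ∈ F.focalSubgroup := by
        simpa using F.focalSubgroup.pow_mem huf k
      have h2 := commutator_le_focal (F := F)
        (Subgroup.commutator_mem_commutator (S.inv_mem a.2) (u ^ k).2)
      have h3 := F.focalSubgroup.mul_mem h2 h1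
      simpa [commutatorElement_def, mul_assoc] using h3
    · have h1 : orderOf (a⁻¹ * u ^ k * a) = orderOf u / k := by
        rw [← orderOf_pow_of_dvd (by omega) hdvd]
        simpa using ((SemiconjBy.conj_mk a⁻¹ (u ^ k)).orderOf_eq _).symm
      rw [h1]
      exact Nat.div_lt_self (orderOf_pos u) hk
  letI : Fintype (S ⧸ D) := Fintype.ofFinite _
  have hmemo : ∀ y : S ⧸ D, π (MulAction.ofQuotientStabilizer S w₀ y) = π w₀ := fun y =>
    Quotient.sound (MulAction.ofQuotientStabilizer_mem_orbit S w₀ y)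
  have hb : Function.Bijective fun y : S ⧸ D =>
      (⟨MulAction.ofQuotientStabilizer S w₀ y, hmemo y⟩ : {x // π x = π w₀}) := by
    refine ⟨fun a b e => MulAction.injective_ofQuotientStabilizer S w₀ (congrArg Subtype.val e),
      fun x => ?_⟩
    obtain ⟨s, hs⟩ := MulAction.mem_orbit_iff.1
      (MulAction.orbitRel_apply.1 (Quotient.exact x.2))
    exact ⟨(s : S ⧸ D), Subtype.ext hs⟩
  have hof : ∀ y : S ⧸ D, MulAction.ofQuotientStabilizer S w₀ y = (y.out : S) • w₀ := fun y => by
    conv_lhs => rw [← QuotientGroup.out_eq' y]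
    rfl
  have hprodS : ∏ y : S ⧸ D, Yoshida.fixTerm μ u y.out ≠ 1 := by
    rw [← Yoshida.transfer_eq_prod_fixTerm μ u hkillμ, transfer_eq_prod_out]
    refine fun e => hprod ?_
    rw [← Fintype.prod_bijective _ hb (fun y => d.f u ((y.out : S) • w₀)) _ fun y => by
      exact congrArg (d.f u) (hof y).symm]
    have hstep : ∀ y : S ⧸ D, d.f u ((y.out : S) • w₀) =
        d.f (u • y).out w₀ * (d.f y.out w₀)⁻¹ *
          μ ⟨(u • y).out⁻¹ * (u * y.out), QuotientGroup.eq.1 (by
            rw [QuotientGroup.out_eq', ← smul_eq_mul, ← MulAction.Quotient.smul_coe,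
              QuotientGroup.out_eq'])⟩ := by
      intro y
      have h1 := d.cocycle u y.out w₀
      have h2 := d.cocycle (u • y).out ((u • y).out⁻¹ * (u * y.out)) w₀
      have hmem : ((u • y).out⁻¹ * (u * y.out)) • w₀ = w₀ := QuotientGroup.eq.1 (by
        rw [QuotientGroup.out_eq', ← smul_eq_mul, ← MulAction.Quotient.smul_coe,
          QuotientGroup.out_eq'] : (((u • y).out : S) : S ⧸ D) = ((u * y.out : S) : S ⧸ D))
      rw [mul_inv_cancel_left, hmem, h1] at h2
      rw [mul_right_comm]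
      show _ = d.f (u • y).out w₀ * d.f _ w₀ * (d.f y.out w₀)⁻¹
      rw [← h2, mul_inv_cancel_right]
    rw [Finset.prod_congr rfl fun y _ => hstep y, Finset.prod_mul_distrib, e, mul_one,
      Finset.prod_mul_distrib,
      Fintype.prod_bijective (fun y => u • y) (MulAction.bijective u)
        (fun y : S ⧸ D => d.f (u • y).out w₀) (fun y => d.f y.out w₀) fun y => rfl,
      Finset.prod_inv_distrib, mul_inv_cancel]
  -- cut down to a maximal subgroup
  have hDtop : D ≠ ⊤ := fun e => hw₀ fun v => (e ▸ Subgroup.mem_top v : v ∈ D)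
  obtain ⟨M, hM, hDM⟩ := (eq_top_or_exists_le_coatom D).resolve_left hDtop
  haveI hMn : M.Normal := CfsgLib.Solvable.normal_of_coatom hS hM
  have hidx : M.index = p := CfsgLib.Solvable.index_coatom hS hM
  obtain ⟨s, hs⟩ : ∃ s : S, s ∉ M := by
    by_contra hcon
    push Not at hcon
    exact hM.1 (eq_top_iff.2 fun t _ => hcon t)
  letI : Fintype (S ⧸ M) := Fintype.ofFinite _
  letI : Fintype (↥M ⧸ D.subgroupOf M) := Fintype.ofFinite _
  rw [Yoshida.prod_fixTerm_le hDM] at hprodS
  simp only [Yoshida.fixTerm_conj μ] at hprodS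
  have huM : u ∈ M := by
    by_contra hn
    refine hprodS (Finset.prod_eq_one fun q _ => Yoshida.prod_fixTerm_eq_one hDM μ fun hh => hn ?_)
    have := hMn.conj_mem _ hh q.out
    simpa [mul_assoc] using this
  let ω := MonoidHom.transfer (Yoshida.restrictTo μ M)
  refine Yoshida.exists_wreath_quotient ω s hs hidx hS ⟨u, huM⟩ fun h0 => hprodS ?_
  apply Multiplicative.toAdd.injective
  rw [toAdd_prod, toAdd_one, ← h0]
  refine Finset.sum_congr rfl fun q _ => ?_
  have hq : q.out⁻¹ * u * q.out ∈ M := by simpa using hMn.conj_mem _ huM q.out⁻¹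
  conv_rhs => rw [← QuotientGroup.out_eq' q, Yoshida.conjVals_apply ω ⟨u, huM⟩ q.out hq]
  congr 1
  rw [Yoshida.transfer_eq_prod_fixTerm _ _ (hkillμ.restrict q.out hq)]
  simp only [Yoshida.fixTerm_restrictTo]

end CfsgLib.FusionTate
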